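import Cfsg.Agent.Lib.Lead.ReeHex.LinCyc
import Mathlib

/-!
# Conjugating an operator of prime order to a power of itself (lead)

If `B X₀ B⁻¹ = X₀ ^ k` for an operator `X₀` of prime order `s` on a `(d+1)`-dimensional space over
`F_q` (with `s ∣ q^j - 1`, `1 ≤ j ≤ d + 1`, only for `j = d`), then `k` is a power of `q` modulo `s`.
-/

set_option autoImplicit false

namespace Cfsg.Agent.ReeHex

open Polynomial Module

section semiconj

variable {K : Type*} [Field K] {R : Type*} [Ring R] [Algebra K R]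

/-- if `b x = y b` then `b p(x) = p(y) b` -/
theorem aeval_semiconj (b x y : R) (h : b * x = y * b) (p : K[X]) :
    b * aeval x p = aeval y p * b := by
  induction p using Polynomial.induction_on with
  | C a => simp [Algebra.commutes]
  | add p q hp hq => rw [map_add, map_add, mul_add, add_mul, hp, hq]
  | monomial n a ih =>
    have hpow : ∀ n : ℕ, b * x ^ n = y ^ n * b := by
      intro n
      induction n with
      | zero => simp
      | succ n ihn => rw [pow_succ, ← mul_assoc, ihn, mul_assoc, h, ← mul_assoc, ← pow_succ]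
    simp only [map_mul, aeval_C, map_pow, aeval_X]
    rw [← mul_assoc, ← Algebra.commutes, mul_assoc, hpow, mul_assoc]

end semiconj

section fixed

variable {K V : Type*} [Field K] [AddCommGroup V] [Module K V]

/-- an operator of such a prime order has a nonzero fixed vector -/
theorem exists_fixed_ne_zero [Fintype K] [Finite V] (A : Module.End K V) (s d : ℕ) [Fact s.Prime]
    (hsq : ¬ s ∣ Fintype.card K) (hA : A ^ s = 1)
    (hdim : finrank K V = d + 1)
    (honly : ∀ j, 1 ≤ j → j ≤ d + 1 → s ∣ Fintype.card K ^ j - 1 → j = d) :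
    ∃ v : V, v ≠ 0 ∧ A v = v := by
  have : Module.Finite K V := Module.Finite.of_finite
  have h := dvd_pow_finrank_sub A s hsq hA ⊤ (fun _ _ => Submodule.mem_top)
  rw [top_inf_eq, finrank_top, hdim] at h
  have hpos : 0 < finrank K ↥(LinearMap.ker (A - 1)) := by
    by_contra h0
    have h0' : finrank K ↥(LinearMap.ker (A - 1)) = 0 := by omega
    rw [h0', Nat.sub_zero] at h
    have := honly (d + 1) (by omega) le_rfl h
    omega
  obtain ⟨y, hy⟩ := Module.finrank_pos_iff_exists_ne_zero.1 hpos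
  refine ⟨(y : V), fun h0 => hy (Subtype.ext h0), ?_⟩
  have := y.2
  rw [LinearMap.mem_ker, LinearMap.sub_apply, sub_eq_zero] at this
  exact this

/-- **conjugating an operator of such a prime order `s` to a power of itself**: the exponent is a
power of `q` modulo `s` -/
theorem pow_conj_frobenius [Fintype K] [Finite V] (X₀ B : Module.End K V) (hB : IsUnit B)
    (s d k : ℕ) [Fact s.Prime] (hsq : ¬ s ∣ Fintype.card K) (hX : X₀ ^ s = 1) (hX1 : X₀ ≠ 1)
    (hdim : finrank K V = d + 1)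
    (honly : ∀ j, 1 ≤ j → j ≤ d + 1 → s ∣ Fintype.card K ^ j - 1 → j = d)
    (hconj : B * X₀ = X₀ ^ k * B) :
    ∃ j : ℕ, k ≡ Fintype.card K ^ j [MOD s] := by
  classical
  have hsp : s.Prime := Fact.out
  have : Module.Finite K V := Module.Finite.of_finite
  have hsK : (s : K) ≠ 0 := natCast_ne_zero_of_not_dvd_card s hsp hsq
  obtain ⟨u, rfl⟩ := hB
  set μ := minpoly K X₀ with hμ
  have hint : IsIntegral K X₀ := Algebra.IsIntegral.isIntegral X₀
  have hμmonic : μ.Monic := minpoly.monic hint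
  have hμ0 : μ ≠ 0 := hμmonic.ne_zero
  have hdeg : μ.natDegree ≤ d + 1 := by
    have h1 := LinearMap.minpoly_dvd_charpoly X₀
    have h2 := natDegree_le_of_dvd h1 (LinearMap.charpoly_monic X₀).ne_zero
    rwa [LinearMap.charpoly_natDegree, hdim] at h2
  obtain ⟨v, hv0, hv⟩ := exists_fixed_ne_zero X₀ s d hsq hX hdim honly
  have hroot : μ.IsRoot 1 := by
    have h0 : aeval X₀ μ = 0 := minpoly.aeval K X₀
    have hev : X₀.HasEigenvector 1 v := ⟨by
      rw [Module.End.mem_eigenspace_iff, one_smul]; exact hv, hv0⟩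
    have h1 := Module.End.aeval_apply_of_hasEigenvector (p := μ) hev
    rw [h0, LinearMap.zero_apply] at h1
    rcases smul_eq_zero.1 h1.symm with h | h
    · exact h
    · exact absurd h hv0
  obtain ⟨g, hg⟩ : (X - C 1 : K[X]) ∣ μ := dvd_iff_isRoot.2 hroot
  rw [C_1] at hg
  have hX10 : (X - 1 : K[X]) ≠ 0 := by
    have := X_sub_C_ne_zero (1 : K)
    rwa [C_1] at this
  have hg0 : g ≠ 0 := by
    rintro rfl
    rw [mul_zero] at hg
    exact hμ0 hg
  set Φ : K[X] := ∑ i ∈ Finset.range s, X ^ i with hΦ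
  have hΦ1 : (X - 1 : K[X]) * Φ = X ^ s - 1 := mul_geom_sum X s
  have hμdvd : μ ∣ X ^ s - 1 := by
    apply minpoly.dvd
    simp [hX]
  have hgΦ : g ∣ Φ := by
    rw [hg, ← hΦ1] at hμdvd
    exact (mul_dvd_mul_iff_left hX10).1 hμdvd
  have hgunit : ¬ IsUnit g := by
    intro hu
    obtain ⟨c, hc, rfl⟩ := Polynomial.isUnit_iff.1 hu
    have h0 : aeval X₀ μ = 0 := minpoly.aeval K X₀
    rw [hg, map_mul, aeval_C, map_sub, aeval_X, map_one] at h0
    have hc0 : c ≠ 0 := hc.ne_zero
    apply hX1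
    have h1 : (X₀ - 1) * (algebraMap K (Module.End K V) c) = 0 := h0
    rw [Algebra.algebraMap_eq_smul_one, mul_smul_comm, mul_one] at h1
    have := (smul_eq_zero.1 h1).resolve_left hc0
    exact sub_eq_zero.1 this
  obtain ⟨f₀, hf₀irr, hf₀g⟩ := WfDvdMonoid.exists_irreducible_factor hgunit hg0
  have hf₀0 : f₀ ≠ 0 := hf₀irr.ne_zero
  have : Fact (Irreducible f₀) := ⟨hf₀irr⟩
  let pb := AdjoinRoot.powerBasis hf₀0
  have hfinL : Module.Finite K (AdjoinRoot f₀) := pb.finite
  have : Finite (AdjoinRoot f₀) := Module.finite_of_finite K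
  have : Fintype (AdjoinRoot f₀) := Fintype.ofFinite _
  have hrank : finrank K (AdjoinRoot f₀) = f₀.natDegree := by
    rw [pb.finrank]
    exact AdjoinRoot.powerBasis_dim hf₀0
  set lam : AdjoinRoot f₀ := AdjoinRoot.root f₀ with hlam
  have haev : ∀ p : K[X], aeval lam p = 0 ↔ f₀ ∣ p := by
    intro p
    rw [hlam, AdjoinRoot.aeval_eq, AdjoinRoot.mk_eq_zero]
  have hlams : lam ^ s = 1 := by
    have := (haev (X ^ s - 1)).2 (dvd_trans hf₀g (dvd_trans hgΦ ⟨X - 1, by rw [← hΦ1]; ring⟩))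
    simpa [sub_eq_zero] using this
  have hlam1 : lam ≠ 1 := by
    intro h1
    have := (haev Φ).2 (dvd_trans hf₀g hgΦ)
    rw [hΦ, map_sum] at this
    simp only [map_pow, aeval_X, h1, one_pow, Finset.sum_const, Finset.card_range,
      nsmul_eq_mul, mul_one] at this
    have h2 : algebraMap K (AdjoinRoot f₀) (s : K) = 0 := by rw [map_natCast]; exact this
    exact hsK ((map_eq_zero _).1 h2)
  have hord : orderOf lam = s := orderOf_eq_prime hlams hlam1
  have hlam0 : lam ≠ 0 := by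
    intro h0
    rw [h0, zero_pow hsp.ne_zero] at hlams
    exact zero_ne_one hlams
  have hsdvd : s ∣ Fintype.card K ^ f₀.natDegree - 1 := by
    have h1 := FiniteField.pow_card_sub_one_eq_one lam hlam0
    rw [Module.card_eq_pow_finrank (K := K), hrank] at h1
    rw [← hord]
    exact orderOf_dvd_of_pow_eq_one h1
  have hdegμ : μ.natDegree = 1 + g.natDegree := by
    rw [hg, natDegree_mul hX10 hg0]
    congr 1
    have := natDegree_X_sub_C (1 : K)
    rwa [C_1] at this
  have hf₀pos : 1 ≤ f₀.natDegree := hf₀irr.natDegree_pos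
  have hf₀le : f₀.natDegree ≤ g.natDegree := natDegree_le_of_dvd hf₀g hg0
  have hf₀d : f₀.natDegree = d := honly _ hf₀pos (by omega) hsdvd
  obtain ⟨h, hh⟩ := hf₀g
  have hh0 : h ≠ 0 := by
    rintro rfl
    rw [mul_zero] at hh
    exact hg0 hh
  have hhdeg : h.natDegree = 0 := by
    have := natDegree_mul hf₀0 hh0
    rw [← hh] at this
    omega
  obtain ⟨c, hc⟩ : ∃ c : K, h = C c := ⟨_, eq_C_of_natDegree_eq_zero hhdeg⟩
  have hc0 : c ≠ 0 := by
    rintro rfl
    rw [C_0] at hc
    exact hh0 hc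
  -- the conjugate
  have h8 : aeval (X₀ ^ k) μ = 0 := by
    have h1 := aeval_semiconj (K := K) (u : Module.End K V) X₀ (X₀ ^ k) hconj μ
    rw [minpoly.aeval, mul_zero] at h1
    exact (Units.mul_left_eq_zero u).1 h1.symm
  have h9 : aeval X₀ (μ.comp (X ^ k)) = 0 := by
    rw [aeval_comp, map_pow, aeval_X]
    exact h8
  have h10 : f₀ ∣ μ.comp (X ^ k) :=
    dvd_trans (dvd_trans ⟨h, hh⟩ ⟨X - 1, hg.trans (mul_comm _ _)⟩) (minpoly.dvd K X₀ h9)
  have h11 : aeval (lam ^ k) μ = 0 := by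
    have := (haev _).2 h10
    rwa [aeval_comp, map_pow, aeval_X] at this
  have hlamk : lam ^ k ≠ 1 := by
    intro h1
    have h2 : s ∣ k := by rw [← hord]; exact orderOf_dvd_of_pow_eq_one h1
    obtain ⟨e, rfl⟩ := h2
    rw [pow_mul, hX, one_pow, one_mul] at hconj
    apply hX1
    have := (Units.mul_right_inj u).1 (hconj.trans (mul_one _).symm)
    exact this
  have h12 : aeval (lam ^ k) f₀ = 0 := by
    rw [hg, hh, hc, map_mul, map_mul, map_sub, aeval_X, map_one, aeval_C] at h11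
    rcases mul_eq_zero.1 h11 with h' | h'
    · exact absurd (sub_eq_zero.1 h') hlamk
    · rcases mul_eq_zero.1 h' with h'' | h''
      · exact h''
      · exact absurd ((map_eq_zero _).1 h'') hc0
  -- Galois
  let σ : AdjoinRoot f₀ →ₐ[K] AdjoinRoot f₀ :=
    AdjoinRoot.liftAlgHom f₀ (Algebra.ofId K (AdjoinRoot f₀)) (lam ^ k) h12
  have hσ : σ lam = lam ^ k := AdjoinRoot.liftAlgHom_root _ _ _ _
  obtain ⟨j, hj⟩ := (FiniteField.bijective_frobeniusAlgHom_pow K (AdjoinRoot f₀)).2 σ
  have hj' : (FiniteField.frobeniusAlgHom K (AdjoinRoot f₀) ^ j.1) lam = lam ^ k := by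
    have : FiniteField.frobeniusAlgHom K (AdjoinRoot f₀) ^ j.1 = σ := hj
    rw [this, hσ]
  rw [AlgHom.coe_pow, FiniteField.coe_frobeniusAlgHom, pow_iterate] at hj'
  refine ⟨j.1, ?_⟩
  have hj'' : lam ^ Fintype.card K ^ j.1 = lam ^ k := hj'
  have hfo : IsOfFinOrder lam := isOfFinOrder_iff_pow_eq_one.2 ⟨s, hsp.pos, hlams⟩
  have := hfo.pow_eq_pow_iff_modEq.1 hj''
  rw [hord] at this
  exact this.symm

end fixed

section grp

variable {K : Type*} [Field K] [Fintype K] {ι : Type*} [Fintype ι] [DecidableEq ι]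

/-- group form -/
theorem conj_pow_frobenius {G : Type*} [Group G] (ρ : G →* GL ι K) (hρ : Function.Injective ρ)
    (x n : G) (s d k : ℕ) [Fact s.Prime] (hsq : ¬ s ∣ Fintype.card K) (hx : orderOf x = s)
    (hdim : Fintype.card ι = d + 1)
    (honly : ∀ j, 1 ≤ j → j ≤ d + 1 → s ∣ Fintype.card K ^ j - 1 → j = d)
    (hconj : n * x * n⁻¹ = x ^ k) : ∃ j : ℕ, n * x * n⁻¹ = x ^ (Fintype.card K ^ j) := by
  have hsp : s.Prime := Fact.out
  have hxs : x ^ s = 1 := hx ▸ pow_orderOf_eq_one x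
  have hx1 : x ≠ 1 := by
    rintro rfl
    rw [orderOf_one] at hx
    exact hsp.one_lt.ne hx
  let e : Matrix ι ι K ≃ₐ[K] Module.End K (ι → K) := Matrix.toLinAlgEquiv'
  have h1 : e ((ρ x : GL ι K) : Matrix ι ι K) ^ s = 1 := by
    rw [← map_pow, ← Units.val_pow_eq_pow_val, ← map_pow, hxs, map_one, Units.val_one, map_one]
  have h2 : e ((ρ x : GL ι K) : Matrix ι ι K) ≠ 1 := by
    intro h
    apply hx1
    apply hρ
    rw [map_one]
    apply Units.ext
    exact e.injective (h.trans (map_one e).symm)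
  have h3 : finrank K (ι → K) = d + 1 := by rw [Module.finrank_fintype_fun_eq_card, hdim]
  have h4 : IsUnit (e ((ρ n : GL ι K) : Matrix ι ι K)) := (ρ n).isUnit.map e
  have h5 : e ((ρ n : GL ι K) : Matrix ι ι K) * e ((ρ x : GL ι K) : Matrix ι ι K)
      = e ((ρ x : GL ι K) : Matrix ι ι K) ^ k * e ((ρ n : GL ι K) : Matrix ι ι K) := by
    rw [← map_pow, ← map_mul, ← map_mul, ← Units.val_pow_eq_pow_val, ← Units.val_mul,
      ← Units.val_mul, ← map_pow, ← map_mul, ← map_mul, ← hconj]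
    congr 3
    group
  obtain ⟨j, hj⟩ := pow_conj_frobenius _ _ h4 s d k hsq h1 h2 h3 honly h5
  refine ⟨j, ?_⟩
  rw [hconj]
  apply pow_eq_pow_iff_modEq.2
  rw [hx]
  exact hj

end grp

end Cfsg.Agent.ReeHex
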