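import Mathlib

/-!
# The index of `C(x)` in `N(⟨x⟩)` when conjugates of `x` are Frobenius powers (lead)
-/

set_option autoImplicit false

namespace Cfsg.Agent.ReeHex

open Subgroup

section

variable {G : Type*} [Group G]

/-- if every element normalising `⟨x⟩` conjugates `x` to `x ^ (q ^ j)` and `q ^ 6 ≡ 1`, then
`|N(⟨x⟩) : C(x)|` divides `6` -/
theorem card_normalizer_zpowers (x : G) (s q : ℕ) (hx : orderOf x = s)
    (hq6 : q ^ 6 ≡ 1 [MOD s])
    (h : ∀ n ∈ normalizer (zpowers x : Set G), ∃ j : ℕ, n * x * n⁻¹ = x ^ (q ^ j)) :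
    ∃ w, w ∣ 6 ∧ Nat.card (normalizer (zpowers x : Set G))
      = w * Nat.card (centralizer ({x} : Set G)) := by
  classical
  set P : Subgroup G := zpowers x with hP
  let ψ := P.normalizerMonoidHom
  -- the `q`-th power automorphism
  have hxq6 : x ^ (q ^ 6) = x := by
    have := pow_eq_pow_iff_modEq.2 (hx ▸ hq6 : q ^ 6 ≡ 1 [MOD orderOf x])
    rwa [pow_one] at this
  have hpow6 : ∀ y ∈ P, y ^ (q ^ 6) = y := by
    intro y hy
    obtain ⟨i, rfl⟩ := Subgroup.mem_zpowers_iff.1 hy
    rw [← zpow_natCast, ← zpow_mul, mul_comm, zpow_mul, zpow_natCast, hxq6]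
  have hcomm : ∀ a b : P, a * b = b * a := by
    intro a b
    obtain ⟨i, hi⟩ := Subgroup.mem_zpowers_iff.1 a.2
    obtain ⟨j, hj⟩ := Subgroup.mem_zpowers_iff.1 b.2
    apply Subtype.ext
    show (a : G) * b = b * a
    rw [← hi, ← hj, ← zpow_add, ← zpow_add, add_comm]
  let τ : MulAut P :=
    { toFun := fun y => y ^ q
      invFun := fun y => y ^ (q ^ 5)
      left_inv := by
        intro y
        apply Subtype.ext
        show ((y : G) ^ q) ^ (q ^ 5) = y
        rw [← pow_mul, ← pow_succ']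
        exact hpow6 y y.2
      right_inv := by
        intro y
        apply Subtype.ext
        show ((y : G) ^ (q ^ 5)) ^ q = y
        rw [← pow_mul, ← pow_succ]
        exact hpow6 y y.2
      map_mul' := by
        intro a b
        exact (Commute.mul_pow (hcomm a b) q) }
  have hτpow : ∀ (j : ℕ) (y : P), ((τ ^ j) y : G) = (y : G) ^ (q ^ j) := by
    intro j
    induction j with
    | zero => intro y; simp
    | succ j ih =>
      intro y
      rw [pow_succ, MulAut.mul_apply, ih]
      show ((y : G) ^ q) ^ (q ^ j) = _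
      rw [← pow_mul, ← pow_succ']
  have hτ6 : τ ^ 6 = 1 := by
    ext y
    rw [hτpow]
    exact hpow6 y y.2
  have hrange : ψ.range ≤ zpowers τ := by
    rintro σ ⟨n, rfl⟩
    obtain ⟨j, hj⟩ := h n n.2
    rw [Subgroup.mem_zpowers_iff]
    refine ⟨j, ?_⟩
    rw [zpow_natCast]
    ext y
    rw [hτpow]
    show (y : G) ^ (q ^ j) = n * y * (n : G)⁻¹
    obtain ⟨i, hi⟩ := Subgroup.mem_zpowers_iff.1 y.2
    rw [← hi]
    have : (n : G) * x ^ i * (n : G)⁻¹ = ((n : G) * x * (n : G)⁻¹) ^ i := by
      rw [conj_zpow]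
    rw [this, hj, ← zpow_natCast, ← zpow_natCast, ← zpow_mul, ← zpow_mul, mul_comm]
  have h1 : Nat.card ψ.range ∣ 6 := by
    have h2 : Nat.card ψ.range ∣ Nat.card (zpowers τ) := Subgroup.card_dvd_of_le hrange
    have h3 : Nat.card (zpowers τ) ∣ 6 := by
      rw [Nat.card_zpowers]
      exact orderOf_dvd_of_pow_eq_one hτ6
    exact dvd_trans h2 h3
  refine ⟨Nat.card ψ.range, h1, ?_⟩
  have h4 := Subgroup.card_eq_card_quotient_mul_card_subgroup ψ.ker
  rw [Nat.card_congr (QuotientGroup.quotientKerEquivRange ψ).toEquiv] at h4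
  rw [h4]
  congr 1
  rw [Subgroup.normalizerMonoidHom_ker]
  have hle : centralizer (P : Set G) ≤ normalizer (P : Set G) :=
    Subgroup.centralizer_le_normalizer _
  rw [Nat.card_congr (Subgroup.subgroupOfEquivOfLe hle).toEquiv]
  have hce : centralizer (P : Set G) = centralizer ({x} : Set G) := by
    ext g
    rw [Subgroup.mem_centralizer_iff, Subgroup.mem_centralizer_singleton_iff]
    constructor
    · intro hg
      exact (hg x (Subgroup.mem_zpowers x)).symm
    · intro hg y hy
      obtain ⟨i, rfl⟩ := Subgroup.mem_zpowers_iff.1 hy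
      have hc : Commute g x := hg
      exact (hc.zpow_right i).eq.symm
  rw [hce]

end

end Cfsg.Agent.ReeHex
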