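import Cfsg.Agent.Lib.Lead.ReeHex.Conj
import Cfsg.Agent.Lib.Lead.ReeHex.Frob
import Cfsg.Agent.Lib.Lead.ReeHex.NormDvd
import Cfsg.Agent.Lib.Lead.ReeCount.ConjUnion
import Mathlib

/-!
# Small Ree groups: the cyclic Hall subgroups `C(x)`, `x` of prime order dividing `q² - q + 1` (lead)
-/

set_option autoImplicit false
set_option maxRecDepth 100000

namespace Cfsg.Agent.ReeHex

open Cfsg.Lie Cfsg.Agent.Lib.Helper5.Chev Cfsg.Agent.Lib.Helper5.GA Cfsg.Agent.Lib.Helper5.Tw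
open Cfsg.Agent.Lib.Helper5.Frob Cfsg.Agent.Lib.Helper5.SL2P Cfsg.Agent.Lib.Helper5.Ree
open Cfsg.Agent.ReeL Cfsg.Agent.Lib.Helper8.ReeSyl Cfsg.Agent.ReeTor
open Cfsg.Agent.Lib.Helper5.SameOrdPA

section general

variable {G : Type*} [Group G]

/-- `C(g z g⁻¹) = g C(z) g⁻¹`, elementwise -/
theorem mem_centralizer_conj (g z y : G) :
    y ∈ Subgroup.centralizer ({g * z * g⁻¹} : Set G)
      ↔ g⁻¹ * y * g ∈ Subgroup.centralizer ({z} : Set G) := by
  rw [Subgroup.mem_centralizer_singleton_iff, Subgroup.mem_centralizer_singleton_iff]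
  constructor
  · intro h
    calc g⁻¹ * y * g * z = g⁻¹ * (y * (g * z * g⁻¹)) * g := by group
      _ = g⁻¹ * ((g * z * g⁻¹) * y) * g := by rw [h]
      _ = z * (g⁻¹ * y * g) := by group
  · intro h
    calc y * (g * z * g⁻¹) = g * ((g⁻¹ * y * g) * z) * g⁻¹ := by group
      _ = g * (z * (g⁻¹ * y * g)) * g⁻¹ := by rw [h]
      _ = g * z * g⁻¹ * y := by group

end general

section

variable {K : Type*} [Field K] [Fintype K] [CharP K 3] {m : ℕ}

/-- an odd prime divisor of `|G|` other than `3` divides `(q-1)/2`, `(q+1)/4` or `q² - q + 1` -/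
theorem prime_cases {m p : ℕ} (hp : p.Prime) (hp3 : 3 < p)
    (hdvd : p ∣ (3 ^ (2 * m + 1)) ^ 3 * (3 ^ (2 * m + 1) - 1) * ((3 ^ (2 * m + 1)) ^ 3 + 1)) :
    p ∣ (3 ^ (2 * m + 1) - 1) / 2 ∨ p ∣ (3 ^ (2 * m + 1) + 1) / 4 ∨
      p ∣ 3 ^ (2 * m + 1) * (3 ^ (2 * m + 1) - 1) + 1 := by
  have h8 := q_mod8 m
  have hq1 : 1 ≤ 3 ^ (2 * m + 1) := Nat.one_le_pow _ _ (by norm_num)
  have hpq : ¬ p ∣ 3 ^ (2 * m + 1) := by
    intro h
    have := Nat.le_of_dvd (by norm_num) (hp.dvd_of_dvd_pow h)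
    omega
  rw [cube_succ _ hq1] at hdvd
  generalize 3 ^ (2 * m + 1) = q at hdvd h8 hq1 hpq
  have hcop2 : p.Coprime 2 := by
    rw [Nat.Prime.coprime_iff_not_dvd hp]
    intro h
    have := Nat.le_of_dvd (by norm_num) h
    omega
  have hcop4 : p.Coprime 4 := by
    have : (4 : ℕ) = 2 * 2 := rfl
    rw [this]
    exact Nat.Coprime.mul_right hcop2 hcop2
  rcases hp.dvd_mul.1 hdvd with h | h
  · rcases hp.dvd_mul.1 h with h | h
    · exact absurd (hp.dvd_of_dvd_pow h) hpq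
    · left
      obtain ⟨k, hk⟩ : 2 ∣ q - 1 := by omega
      rw [hk] at h ⊢
      rw [Nat.mul_div_cancel_left _ (by norm_num)]
      exact (Nat.Coprime.dvd_mul_left hcop2).1 h
  · rcases hp.dvd_mul.1 h with h | h
    · right; left
      obtain ⟨k, hk⟩ : 4 ∣ q + 1 := by omega
      rw [hk] at h ⊢
      rw [Nat.mul_div_cancel_left _ (by norm_num)]
      exact (Nat.Coprime.dvd_mul_left hcop4).1 h
    · right; right; exact h

/-- the prime divisors of `|C(x)|` divide `q² - q + 1` -/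
theorem hex_cent_prime (hK : Fintype.card K = 3 ^ (2 * m + 1)) (hm : 1 ≤ m)
    (x : ↥(twistedG2 K (3 ^ m))) (s : ℕ) (hs : s.Prime)
    (hsd : s ∣ 3 ^ (2 * m + 1) * (3 ^ (2 * m + 1) - 1) + 1) (hx : orderOf x = s)
    (p : ℕ) (hp : p.Prime)
    (hpd : p ∣ Nat.card (Subgroup.centralizer ({x} : Set ↥(twistedG2 K (3 ^ m))))) :
    p ∣ 3 ^ (2 * m + 1) * (3 ^ (2 * m + 1) - 1) + 1 := by
  have hfin := Cfsg.Agent.ReeL.finite_twisted (K := K) (m := m) hK
  have : Fact p.Prime := ⟨hp⟩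
  obtain ⟨hs3, hsq, hsm, hsp⟩ := hex_arith hs hsd
  obtain ⟨z, hz⟩ := exists_prime_orderOf_dvd_card' (G := ↥(Subgroup.centralizer
    ({x} : Set ↥(twistedG2 K (3 ^ m))))) p hpd
  have hzo : orderOf (z : ↥(twistedG2 K (3 ^ m))) = p := by rw [Subgroup.orderOf_coe, hz]
  have hzx : (z : ↥(twistedG2 K (3 ^ m))) * x = x * z :=
    Subgroup.mem_centralizer_singleton_iff.1 z.2
  have hz1 : (z : ↥(twistedG2 K (3 ^ m))) ≠ 1 := by
    intro h
    rw [h, orderOf_one] at hzo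
    exact hp.one_lt.ne hzo
  have hzp : (z : ↥(twistedG2 K (3 ^ m))) ^ p = 1 := hzo ▸ pow_orderOf_eq_one _
  by_cases hp2 : p = 2
  · subst hp2
    exact absurd (no_invol_hex hK hm x z s hs hsd hx (by rw [← sq]; exact hzp) hzx) hz1
  by_cases hp3 : p = 3
  · subst hp3
    exact absurd (no_three hK x z s hs hs3 ((Nat.Prime.coprime_iff_not_dvd hs).2 hsm) hx hzp hzx) hz1
  have hp3' : 3 < p := by
    have := hp.two_le
    omega
  have hpG : p ∣ Nat.card ↥(twistedG2 K (3 ^ m)) := hzo ▸ orderOf_dvd_natCard _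
  rw [card_twisted hK] at hpG
  have hxz : x ∈ Subgroup.centralizer ({(z : ↥(twistedG2 K (3 ^ m)))} : Set ↥(twistedG2 K (3 ^ m))) :=
    Subgroup.mem_centralizer_singleton_iff.2 hzx.symm
  have hxdvd : s ∣ Nat.card (Subgroup.centralizer
      ({(z : ↥(twistedG2 K (3 ^ m)))} : Set ↥(twistedG2 K (3 ^ m)))) := by
    have h1 : orderOf (⟨x, hxz⟩ : ↥(Subgroup.centralizer
      ({(z : ↥(twistedG2 K (3 ^ m)))} : Set ↥(twistedG2 K (3 ^ m))))) = s := by
      rw [← Subgroup.orderOf_coe]; exact hx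
    rw [← h1]
    exact orderOf_dvd_natCard _
  rcases prime_cases hp hp3' hpG with h | h | h
  · exfalso
    obtain ⟨g, hg⟩ := split_cent hK (z : ↥(twistedG2 K (3 ^ m))) p hp h hzo
    rw [Nat.card_congr (conjEquiv _ _ g hg).toEquiv, card_HH1 hK] at hxdvd
    exact hsm hxdvd
  · exfalso
    obtain ⟨-, hcard, -⟩ := quarter_cent hK hm (z : ↥(twistedG2 K (3 ^ m))) p hp h hzo
    rw [hcard] at hxdvd
    exact hsp hxdvd
  · exact h

/-- commutativity inside `C(x)` -/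
theorem hex_cent_comm' (hK : Fintype.card K = 3 ^ (2 * m + 1)) (hm : 1 ≤ m)
    (x : ↥(twistedG2 K (3 ^ m))) (s : ℕ) (hs : s.Prime)
    (hsd : s ∣ 3 ^ (2 * m + 1) * (3 ^ (2 * m + 1) - 1) + 1) (hx : orderOf x = s)
    (a b : ↥(twistedG2 K (3 ^ m)))
    (ha : a ∈ Subgroup.centralizer ({x} : Set ↥(twistedG2 K (3 ^ m))))
    (hb : b ∈ Subgroup.centralizer ({x} : Set ↥(twistedG2 K (3 ^ m)))) : a * b = b * a := by
  rw [Subgroup.mem_centralizer_singleton_iff] at ha hb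
  exact hex_comm hK hm x s hs hsd hx a b ha hb

/-- `C(z) = C(x)` for every `z ≠ 1` in `C(x)` -/
theorem hex_cent_eq (hK : Fintype.card K = 3 ^ (2 * m + 1)) (hm : 1 ≤ m)
    (x : ↥(twistedG2 K (3 ^ m))) (s : ℕ) (hs : s.Prime)
    (hsd : s ∣ 3 ^ (2 * m + 1) * (3 ^ (2 * m + 1) - 1) + 1) (hx : orderOf x = s)
    (z : ↥(twistedG2 K (3 ^ m)))
    (hz : z ∈ Subgroup.centralizer ({x} : Set ↥(twistedG2 K (3 ^ m)))) (hz1 : z ≠ 1) :
    Subgroup.centralizer ({z} : Set ↥(twistedG2 K (3 ^ m)))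
      = Subgroup.centralizer ({x} : Set ↥(twistedG2 K (3 ^ m))) := by
  have hfin := Cfsg.Agent.ReeL.finite_twisted (K := K) (m := m) hK
  apply le_antisymm
  · -- a prime-order power `z'` of `z`
    have hoz : orderOf z ≠ 1 := fun h => hz1 (orderOf_eq_one_iff.1 h)
    set p := (orderOf z).minFac with hp
    have hpp : p.Prime := Nat.minFac_prime hoz
    have hpd : p ∣ orderOf z := Nat.minFac_dvd _
    set z' := z ^ (orderOf z / p) with hz'
    have hz'o : orderOf z' = p := orderOf_pow_orderOf_div (orderOf_pos z).ne' hpd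
    have hz'C : z' ∈ Subgroup.centralizer ({x} : Set ↥(twistedG2 K (3 ^ m))) :=
      Subgroup.pow_mem _ hz _
    have hpC : p ∣ Nat.card (Subgroup.centralizer ({x} : Set ↥(twistedG2 K (3 ^ m)))) := by
      have h1 : orderOf (⟨z', hz'C⟩ : ↥(Subgroup.centralizer
          ({x} : Set ↥(twistedG2 K (3 ^ m))))) = p := by
        rw [← Subgroup.orderOf_coe]; exact hz'o
      rw [← h1]
      exact orderOf_dvd_natCard _
    have hpN := hex_cent_prime hK hm x s hs hsd hx p hpp hpC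
    intro g hg
    rw [Subgroup.mem_centralizer_singleton_iff] at hg
    -- `g` commutes with `z'`
    have hgz' : g * z' = z' * g := by
      have hc : Commute g z := hg
      exact (hc.pow_right _).eq
    -- `x` commutes with `z'`
    have hxz' : x * z' = z' * x := (Subgroup.mem_centralizer_singleton_iff.1 hz'C).symm
    have := hex_comm hK hm z' p hpp hpN hz'o g x hgz' hxz'
    rw [Subgroup.mem_centralizer_singleton_iff]
    exact this
  · intro g hg
    rw [Subgroup.mem_centralizer_singleton_iff]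
    exact hex_cent_comm' hK hm x s hs hsd hx g z hg hz

/-- `|N(⟨x⟩) : C(x)|` divides `6` for `x` of prime order `s ∣ q² - q + 1` -/
theorem hex_norm (hK : Fintype.card K = 3 ^ (2 * m + 1)) (hm : 1 ≤ m)
    (x : ↥(twistedG2 K (3 ^ m))) (s : ℕ) (hs : s.Prime)
    (hsd : s ∣ 3 ^ (2 * m + 1) * (3 ^ (2 * m + 1) - 1) + 1) (hx : orderOf x = s) :
    ∃ w, w ∣ 6 ∧ Nat.card (Subgroup.normalizer (Subgroup.zpowers x : Set ↥(twistedG2 K (3 ^ m))))
      = w * Nat.card (Subgroup.centralizer ({x} : Set ↥(twistedG2 K (3 ^ m)))) := by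
  classical
  have : Fact s.Prime := ⟨hs⟩
  obtain ⟨hs3, hsq, -, -⟩ := hex_arith hs hsd
  have hq1 : 1 ≤ 3 ^ (2 * m + 1) := Nat.one_le_pow _ _ (by norm_num)
  have hC := (dvd_quad_iff (p := s) _ hq1).1 hsd
  have honly : ∀ j, 1 ≤ j → j ≤ 6 + 1 → s ∣ Fintype.card K ^ j - 1 → j = 6 := by
    intro j hj1 hj7 hj
    rw [hK, dvd_pow_sub_one_iff _ j hq1] at hj
    exact zmod_six hs3 _ hC j hj1 hj7 hj
  have hq6 : (3 ^ (2 * m + 1)) ^ 6 ≡ 1 [MOD s] := by
    rw [← ZMod.natCast_eq_natCast_iff]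
    push_cast
    have hC' : ((3 : ZMod s) ^ (2 * m + 1)) ^ 2 - (3 : ZMod s) ^ (2 * m + 1) + 1 = 0 := by
      have := hC
      push_cast at this
      exact this
    generalize (3 : ZMod s) ^ (2 * m + 1) = y at hC'
    linear_combination (y ^ 4 + y ^ 3 - y - 1) * hC'
  apply card_normalizer_zpowers x s (3 ^ (2 * m + 1)) hx hq6
  intro n hn
  have hmem : n * x * n⁻¹ ∈ Subgroup.zpowers x := by
    have := (Subgroup.mem_normalizer_iff.1 hn x).1 (Subgroup.mem_zpowers x)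
    exact this
  have hfin := Cfsg.Agent.ReeL.finite_twisted (K := K) (m := m) hK
  obtain ⟨k, hk⟩ := (Submonoid.mem_powers_iff _ _).1 (mem_powers_iff_mem_zpowers.2 hmem)
  have := conj_pow_frobenius (rhoT hK) (rhoT_injective hK hm) x n s 6 k (by rw [hK]; exact hsq) hx
    (by rw [card_Jt]) honly hk.symm
  rw [hK] at this
  exact this

/-- if `z ≠ 1` and `g z g⁻¹` both lie in `C(x)` then `g` normalises `C(x)` -/
theorem hex_strongly_closed (hK : Fintype.card K = 3 ^ (2 * m + 1)) (hm : 1 ≤ m)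
    (x : ↥(twistedG2 K (3 ^ m))) (s : ℕ) (hs : s.Prime)
    (hsd : s ∣ 3 ^ (2 * m + 1) * (3 ^ (2 * m + 1) - 1) + 1) (hx : orderOf x = s)
    (g z : ↥(twistedG2 K (3 ^ m)))
    (hz : z ∈ Subgroup.centralizer ({x} : Set ↥(twistedG2 K (3 ^ m)))) (hz1 : z ≠ 1)
    (hgz : g * z * g⁻¹ ∈ Subgroup.centralizer ({x} : Set ↥(twistedG2 K (3 ^ m)))) :
    g ∈ Subgroup.normalizer
      (Subgroup.centralizer ({x} : Set ↥(twistedG2 K (3 ^ m))) : Set ↥(twistedG2 K (3 ^ m))) := by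
  have hfin := Cfsg.Agent.ReeL.finite_twisted (K := K) (m := m) hK
  have h1 := hex_cent_eq hK hm x s hs hsd hx z hz hz1
  have hgz1 : g * z * g⁻¹ ≠ 1 := by
    intro h
    apply hz1
    calc z = g⁻¹ * (g * z * g⁻¹) * g := by group
      _ = 1 := by rw [h]; group
  have h2 := hex_cent_eq hK hm x s hs hsd hx _ hgz hgz1
  apply Subgroup.mem_normalizer_fintype
  intro y hy
  have hy' : y ∈ Subgroup.centralizer ({x} : Set ↥(twistedG2 K (3 ^ m))) := hy
  show g * y * g⁻¹ ∈ Subgroup.centralizer ({x} : Set ↥(twistedG2 K (3 ^ m)))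
  rw [← h2, mem_centralizer_conj, h1]
  have : g⁻¹ * (g * y * g⁻¹) * g = y := by group
  rw [this]
  exact hy'

/-- `N(C(x)) = N(⟨x⟩)` -/
theorem hex_normalizer_eq (hK : Fintype.card K = 3 ^ (2 * m + 1)) (hm : 1 ≤ m)
    (x : ↥(twistedG2 K (3 ^ m))) (s : ℕ) (hs : s.Prime)
    (hsd : s ∣ 3 ^ (2 * m + 1) * (3 ^ (2 * m + 1) - 1) + 1) (hx : orderOf x = s) :
    Subgroup.normalizer
      (Subgroup.centralizer ({x} : Set ↥(twistedG2 K (3 ^ m))) : Set ↥(twistedG2 K (3 ^ m)))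
      = Subgroup.normalizer (Subgroup.zpowers x : Set ↥(twistedG2 K (3 ^ m))) := by
  have hfin := Cfsg.Agent.ReeL.finite_twisted (K := K) (m := m) hK
  have hx1 : x ≠ 1 := by
    rintro rfl
    rw [orderOf_one] at hx
    exact hs.one_lt.ne hx
  have hxC : x ∈ Subgroup.centralizer ({x} : Set ↥(twistedG2 K (3 ^ m))) :=
    Subgroup.mem_centralizer_singleton_iff.2 rfl
  have hcyc := hex_cent_cyclic hK hm x s hs hsd hx
  apply le_antisymm
  · intro n hn
    have hnx : n * x * n⁻¹ ∈ Subgroup.centralizer ({x} : Set ↥(twistedG2 K (3 ^ m))) :=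
      (Subgroup.mem_normalizer_iff.1 hn x).1 hxC
    have hord : orderOf (n * x * n⁻¹) = s := by
      have := MulEquiv.orderOf_eq (MulAut.conj n) x
      rw [MulAut.conj_apply] at this
      rw [this, hx]
    have heq : Subgroup.zpowers (n * x * n⁻¹) = Subgroup.zpowers x := by
      apply eq_of_card_eq_of_le_cyclic (Subgroup.centralizer ({x} : Set ↥(twistedG2 K (3 ^ m))))
      · rw [Subgroup.zpowers_le]; exact hnx
      · rw [Subgroup.zpowers_le]; exact hxC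
      · rw [Nat.card_zpowers, Nat.card_zpowers, hord, hx]
    apply Subgroup.mem_normalizer_fintype
    intro y hy
    obtain ⟨i, rfl⟩ := Subgroup.mem_zpowers_iff.1 hy
    show n * x ^ i * n⁻¹ ∈ Subgroup.zpowers x
    rw [← heq, ← conj_zpow]
    exact Subgroup.zpow_mem _ (Subgroup.mem_zpowers _) i
  · intro n hn
    have hnx : n * x * n⁻¹ ∈ Subgroup.zpowers x :=
      (Subgroup.mem_normalizer_iff.1 hn x).1 (Subgroup.mem_zpowers x)
    have hzle : Subgroup.zpowers x ≤ Subgroup.centralizer ({x} : Set ↥(twistedG2 K (3 ^ m))) := by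
      rw [Subgroup.zpowers_le]; exact hxC
    exact hex_strongly_closed hK hm x s hs hsd hx n x hxC hx1 (hzle hnx)

/-- the order of `N(C(x))` -/
theorem hex_card_normalizer (hK : Fintype.card K = 3 ^ (2 * m + 1)) (hm : 1 ≤ m)
    (x : ↥(twistedG2 K (3 ^ m))) (s : ℕ) (hs : s.Prime)
    (hsd : s ∣ 3 ^ (2 * m + 1) * (3 ^ (2 * m + 1) - 1) + 1) (hx : orderOf x = s) :
    ∃ w, w ∣ 6 ∧ Nat.card (Subgroup.normalizer
      (Subgroup.centralizer ({x} : Set ↥(twistedG2 K (3 ^ m))) : Set ↥(twistedG2 K (3 ^ m))))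
      = w * Nat.card (Subgroup.centralizer ({x} : Set ↥(twistedG2 K (3 ^ m)))) := by
  rw [hex_normalizer_eq hK hm x s hs hsd hx]
  exact hex_norm hK hm x s hs hsd hx

/-- the union of the conjugates of `C(x) ∖ 1` -/
theorem hex_card_union (hK : Fintype.card K = 3 ^ (2 * m + 1)) (hm : 1 ≤ m)
    (x : ↥(twistedG2 K (3 ^ m))) (s : ℕ) (hs : s.Prime)
    (hsd : s ∣ 3 ^ (2 * m + 1) * (3 ^ (2 * m + 1) - 1) + 1) (hx : orderOf x = s) :
    Nat.card {y : ↥(twistedG2 K (3 ^ m)) // ∃ g z,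
        z ∈ {z | z ∈ Subgroup.centralizer ({x} : Set ↥(twistedG2 K (3 ^ m))) ∧ z ≠ 1}
          ∧ y = g * z * g⁻¹}
      * Nat.card (Subgroup.normalizer
        (Subgroup.centralizer ({x} : Set ↥(twistedG2 K (3 ^ m))) : Set ↥(twistedG2 K (3 ^ m))))
      = Nat.card ↥(twistedG2 K (3 ^ m))
        * (Nat.card (Subgroup.centralizer ({x} : Set ↥(twistedG2 K (3 ^ m)))) - 1) := by
  have hfin := Cfsg.Agent.ReeL.finite_twisted (K := K) (m := m) hK
  have h := Cfsg.Agent.ReeCount.card_conj_union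
    (Subgroup.normalizer
      (Subgroup.centralizer ({x} : Set ↥(twistedG2 K (3 ^ m))) : Set ↥(twistedG2 K (3 ^ m))))
    {z | z ∈ Subgroup.centralizer ({x} : Set ↥(twistedG2 K (3 ^ m))) ∧ z ≠ 1}
    (by
      rintro n hn z ⟨hz, hz1⟩
      refine ⟨(Subgroup.mem_normalizer_iff.1 hn z).1 hz, ?_⟩
      intro h
      apply hz1
      calc z = n⁻¹ * (n * z * n⁻¹) * n := by group
        _ = 1 := by rw [h]; group)
    (by
      rintro g z ⟨hz, hz1⟩ ⟨hgz, -⟩
      exact hex_strongly_closed hK hm x s hs hsd hx g z hz hz1 hgz)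
  rw [h]
  congr 1
  -- `|C(x) ∖ 1| = |C(x)| - 1`
  classical
  have : Fintype ↥(twistedG2 K (3 ^ m)) := Fintype.ofFinite _
  rw [Nat.card_eq_fintype_card, Nat.card_eq_fintype_card]
  have e : {z : ↥(twistedG2 K (3 ^ m)) // z ∈ {z | z ∈ Subgroup.centralizer
      ({x} : Set ↥(twistedG2 K (3 ^ m))) ∧ z ≠ 1}}
      ≃ {z : ↥(Subgroup.centralizer ({x} : Set ↥(twistedG2 K (3 ^ m)))) // z ≠ 1} :=
    ⟨fun z => ⟨⟨z.1, z.2.1⟩, fun h => z.2.2 (congrArg Subtype.val h)⟩,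
     fun z => ⟨z.1.1, z.1.2, fun h => z.2 (Subtype.ext h)⟩, fun z => rfl, fun z => rfl⟩
  rw [Fintype.card_congr e, Fintype.card_subtype_compl, Fintype.card_subtype_eq]

/-- `C(x)` contains a Sylow `p`-subgroup of `G` for every prime `p` dividing its order -/
theorem hex_hall (hK : Fintype.card K = 3 ^ (2 * m + 1)) (hm : 1 ≤ m)
    (x : ↥(twistedG2 K (3 ^ m))) (s : ℕ) (hs : s.Prime)
    (hsd : s ∣ 3 ^ (2 * m + 1) * (3 ^ (2 * m + 1) - 1) + 1) (hx : orderOf x = s)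
    (p : ℕ) (hp : p.Prime)
    (hpd : p ∣ Nat.card (Subgroup.centralizer ({x} : Set ↥(twistedG2 K (3 ^ m))))) :
    (Nat.card ↥(twistedG2 K (3 ^ m))).factorization p
      = (Nat.card (Subgroup.centralizer ({x} : Set ↥(twistedG2 K (3 ^ m))))).factorization p := by
  have hfin := Cfsg.Agent.ReeL.finite_twisted (K := K) (m := m) hK
  have : Fact p.Prime := ⟨hp⟩
  have hpN := hex_cent_prime hK hm x s hs hsd hx p hp hpd
  obtain ⟨hp3, -, -, -⟩ := hex_arith hp hpN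
  obtain ⟨z, hz⟩ := exists_prime_orderOf_dvd_card' (G := ↥(Subgroup.centralizer
    ({x} : Set ↥(twistedG2 K (3 ^ m))))) p hpd
  have hzo : orderOf (z : ↥(twistedG2 K (3 ^ m))) = p := by rw [Subgroup.orderOf_coe, hz]
  have hz1 : (z : ↥(twistedG2 K (3 ^ m))) ≠ 1 := by
    intro h
    rw [h, orderOf_one] at hzo
    exact hp.one_lt.ne hzo
  have hpz : IsPGroup p (Subgroup.zpowers (z : ↥(twistedG2 K (3 ^ m)))) :=
    isPGroup_zpowers_of_orderOf p _ hzo
  obtain ⟨P, hP⟩ := hpz.exists_le_sylow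
  have hPcyc := sylow_cyclic hm hK hp3 P
  have hPle : (P : Subgroup ↥(twistedG2 K (3 ^ m)))
      ≤ Subgroup.centralizer ({x} : Set ↥(twistedG2 K (3 ^ m))) := by
    rw [← hex_cent_eq hK hm x s hs hsd hx z z.2 hz1]
    exact cyclic_le_centralizer _ hPcyc _ (hP (Subgroup.mem_zpowers _))
  have h1 : Nat.card (P : Subgroup ↥(twistedG2 K (3 ^ m)))
      ∣ Nat.card (Subgroup.centralizer ({x} : Set ↥(twistedG2 K (3 ^ m)))) :=
    Subgroup.card_dvd_of_le hPle
  rw [P.card_eq_multiplicity] at h1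
  have h2 : Nat.card (Subgroup.centralizer ({x} : Set ↥(twistedG2 K (3 ^ m))))
      ∣ Nat.card ↥(twistedG2 K (3 ^ m)) := Subgroup.card_subgroup_dvd_card _
  have hC0 : Nat.card (Subgroup.centralizer ({x} : Set ↥(twistedG2 K (3 ^ m)))) ≠ 0 :=
    Nat.card_pos.ne'
  have hG0 : Nat.card ↥(twistedG2 K (3 ^ m)) ≠ 0 := Nat.card_pos.ne'
  apply le_antisymm
  · exact (hp.pow_dvd_iff_le_factorization hC0).1 h1
  · exact (Nat.factorization_le_iff_dvd hC0 hG0).2 h2 p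

/-- `|C(x)|` divides `q² - q + 1` and is coprime to the cofactor -/
theorem hex_card_dvd (hK : Fintype.card K = 3 ^ (2 * m + 1)) (hm : 1 ≤ m)
    (x : ↥(twistedG2 K (3 ^ m))) (s : ℕ) (hs : s.Prime)
    (hsd : s ∣ 3 ^ (2 * m + 1) * (3 ^ (2 * m + 1) - 1) + 1) (hx : orderOf x = s) :
    Nat.card (Subgroup.centralizer ({x} : Set ↥(twistedG2 K (3 ^ m))))
        ∣ 3 ^ (2 * m + 1) * (3 ^ (2 * m + 1) - 1) + 1 ∧
      ∀ p : ℕ, p.Prime →
        p ∣ Nat.card (Subgroup.centralizer ({x} : Set ↥(twistedG2 K (3 ^ m)))) →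
        ¬ p ∣ (3 ^ (2 * m + 1) * (3 ^ (2 * m + 1) - 1) + 1)
          / Nat.card (Subgroup.centralizer ({x} : Set ↥(twistedG2 K (3 ^ m)))) := by
  have hfin := Cfsg.Agent.ReeL.finite_twisted (K := K) (m := m) hK
  set M := Nat.card (Subgroup.centralizer ({x} : Set ↥(twistedG2 K (3 ^ m)))) with hM
  set N := 3 ^ (2 * m + 1) * (3 ^ (2 * m + 1) - 1) + 1 with hN
  have hM0 : M ≠ 0 := Nat.card_pos.ne'
  have hN0 : N ≠ 0 := by rw [hN]; omega
  have hq1 : 1 ≤ 3 ^ (2 * m + 1) := Nat.one_le_pow _ _ (by norm_num)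
  -- valuations
  have hval : ∀ p : ℕ, p.Prime → p ∣ M → M.factorization p = N.factorization p := by
    intro p hp hpd
    have hpN := hex_cent_prime hK hm x s hs hsd hx p hp hpd
    obtain ⟨hp3, hpq, hpm, hpp⟩ := hex_arith hp hpN
    rw [← hex_hall hK hm x s hs hsd hx p hp hpd, card_twisted hK, cube_succ _ hq1]
    have h0 : (3 ^ (2 * m + 1)) ^ 3 * (3 ^ (2 * m + 1) - 1) ≠ 0 := by
      have : 3 ^ (2 * m + 1) - 1 ≠ 0 := by
        have : 3 ^ 1 ≤ 3 ^ (2 * m + 1) := Nat.pow_le_pow_right (by norm_num) (by omega)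
        omega
      positivity
    have h1 : (3 ^ (2 * m + 1) + 1) ≠ 0 := by omega
    rw [fact_mul_left h0 (mul_ne_zero h1 hN0) (fun h' => by
      rcases hp.dvd_mul.1 h' with h'' | h''
      · exact hpq (hp.dvd_of_dvd_pow h'')
      · exact hpm h''), fact_mul_left h1 hN0 hpp]
  have hdvd : M ∣ N := by
    rw [← Nat.factorization_le_iff_dvd hM0 hN0]
    intro p
    by_cases hp : p.Prime
    · by_cases hpd : p ∣ M
      · rw [hval p hp hpd]
      · rw [Nat.factorization_eq_zero_of_not_dvd hpd]; exact Nat.zero_le _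
    · rw [Nat.factorization_eq_zero_of_not_prime _ hp]; exact Nat.zero_le _
  refine ⟨hdvd, ?_⟩
  intro p hp hpd hpdiv
  obtain ⟨c, hc⟩ := hdvd
  have hc0 : c ≠ 0 := by
    rintro rfl
    rw [mul_zero] at hc
    exact hN0 hc
  rw [hc, Nat.mul_div_cancel_left _ (Nat.pos_of_ne_zero hM0)] at hpdiv
  have h1 := hval p hp hpd
  rw [hc, Nat.factorization_mul hM0 hc0, Finsupp.add_apply] at h1
  have h2 : 0 < c.factorization p := hp.factorization_pos_of_dvd hc0 hpdiv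
  omega

end

end Cfsg.Agent.ReeHex
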