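import Cfsg.Agent.Lib.Lead.ReeHex.Final
import Cfsg.Agent.Lib.Helper5.Ree.Ward3b
import Cfsg.Agent.Lib.Helper5.Ree.WardE
import Cfsg.Agent.Lib.Helper5.Ree.WardC1
import Cfsg.Agent.Lib.Helper5.Ree.WardC2
import Cfsg.Agent.Lib.Helper5.Ree.WardQ3
import Cfsg.Agent.Lib.Helper5.Ree.WardT3
import Mathlib

/-!
# Small Ree groups: assembly of Ward's theorems (lead)

Everything is stated modulo the covering statement `Cover K m` (every non-identity element belongs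
to one of the six types), supplied by helper5's `Ward3c`.
-/

set_option autoImplicit false
set_option maxRecDepth 100000

namespace Cfsg.Agent.ReeHex

open Cfsg.Lie Cfsg.Agent.Lib.Helper5.Chev Cfsg.Agent.Lib.Helper5.GA Cfsg.Agent.Lib.Helper5.Tw
open Cfsg.Agent.Lib.Helper5.Frob Cfsg.Agent.Lib.Helper5.SL2P Cfsg.Agent.Lib.Helper5.Ree
open Cfsg.Agent.ReeL Cfsg.Agent.Lib.Helper8.ReeSyl Cfsg.Agent.ReeTor

/-- every non-identity element belongs to one of the six types -/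
def Cover (K : Type*) [Field K] (m : ℕ) : Prop :=
  ∀ g : ↥(twistedG2 K (3 ^ m)), g ≠ 1 →
    (∃ k : ℕ, orderOf g = 3 ^ k) ∨ orderOf g = 2 ∨ orderOf g = 6 ∨
    (∃ s : ℕ, s.Prime ∧ s ∣ (3 ^ (2 * m + 1) - 1) / 2 ∧ s ∣ orderOf g) ∨
    (∃ s : ℕ, s.Prime ∧ s ∣ (3 ^ (2 * m + 1) + 1) / 4 ∧ s ∣ orderOf g) ∨
    (∃ s : ℕ, s.Prime ∧ s ∣ 3 ^ (2 * m + 1) * (3 ^ (2 * m + 1) - 1) + 1 ∧ s ∣ orderOf g)

section

variable {K : Type*} [Field K] [Fintype K] [CharP K 3] {m : ℕ}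

theorem hex_conclusion (hK : Fintype.card K = 3 ^ (2 * m + 1)) (hm : 1 ≤ m)
    (hcover : Cover K m) : HexConclusion K m :=
  hex_endgame hK hm _ rfl (card_Xpi hK hm (card_three_elements hK) hcover)

/-- S2357 -/
theorem main_counts (hK : Fintype.card K = 3 ^ (2 * m + 1)) (hm : 1 ≤ m)
    (hcover : Cover K m) :
    Nat.card {g : ↥(Cfsg.Lie.twistedG2 K (3 ^ m)) // orderOf g = 2} = (3 ^ (2 * m + 1)) ^ 2 * ((3 ^ (2 * m + 1)) ^ 2 - 3 ^ (2 * m + 1) + 1) ∧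
    Nat.card {g : ↥(Cfsg.Lie.twistedG2 K (3 ^ m)) // orderOf g = 3} = ((3 ^ (2 * m + 1)) ^ 2 - 1) * ((3 ^ (2 * m + 1)) ^ 3 + 1) ∧
    Nat.card {g : ↥(Cfsg.Lie.twistedG2 K (3 ^ m)) // orderOf g = 6} = (3 ^ (2 * m + 1)) ^ 2 * (3 ^ (2 * m + 1) - 1) * ((3 ^ (2 * m + 1)) ^ 3 + 1) ∧
    Nat.card {g : ↥(Cfsg.Lie.twistedG2 K (3 ^ m)) // orderOf g = 9} = (3 ^ (2 * m + 1)) ^ 2 * (3 ^ (2 * m + 1) - 1) * ((3 ^ (2 * m + 1)) ^ 3 + 1) ∧
    (∀ i : ℕ, 2 < i → i ∣ 3 ^ (2 * m + 1) - 1 →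
      2 * Nat.card {g : ↥(Cfsg.Lie.twistedG2 K (3 ^ m)) // orderOf g = i} = Nat.totient i * (3 ^ (2 * m + 1)) ^ 3 * ((3 ^ (2 * m + 1)) ^ 3 + 1)) ∧
    (∀ i : ℕ, 1 < i → i ∣ (3 ^ (2 * m + 1) + 1) / 4 →
      6 * Nat.card {g : ↥(Cfsg.Lie.twistedG2 K (3 ^ m)) // orderOf g = i} =
          Nat.totient i * (3 ^ (2 * m + 1)) ^ 3 * (3 ^ (2 * m + 1) - 1) * ((3 ^ (2 * m + 1)) ^ 2 - 3 ^ (2 * m + 1) + 1) ∧
        2 * Nat.card {g : ↥(Cfsg.Lie.twistedG2 K (3 ^ m)) // orderOf g = 2 * i} =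
          Nat.totient i * (3 ^ (2 * m + 1)) ^ 3 * (3 ^ (2 * m + 1) - 1) * ((3 ^ (2 * m + 1)) ^ 2 - 3 ^ (2 * m + 1) + 1)) ∧
    (∀ i : ℕ, 1 < i → i ∣ 3 ^ (2 * m + 1) - 3 ^ (m + 1) + 1 →
      6 * Nat.card {g : ↥(Cfsg.Lie.twistedG2 K (3 ^ m)) // orderOf g = i} =
        Nat.totient i * (3 ^ (2 * m + 1)) ^ 3 * ((3 ^ (2 * m + 1)) ^ 2 - 1) * (3 ^ (2 * m + 1) + 3 ^ (m + 1) + 1)) ∧
    (∀ i : ℕ, 1 < i → i ∣ 3 ^ (2 * m + 1) + 3 ^ (m + 1) + 1 →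
      6 * Nat.card {g : ↥(Cfsg.Lie.twistedG2 K (3 ^ m)) // orderOf g = i} =
        Nat.totient i * (3 ^ (2 * m + 1)) ^ 3 * ((3 ^ (2 * m + 1)) ^ 2 - 1) * (3 ^ (2 * m + 1) - 3 ^ (m + 1) + 1)) := by
  have H := hex_conclusion hK hm hcover
  exact ⟨card_invol hK hm, card_order_three hK, card_order_six hK hm, card_order_nine hK,
    card_order_split hK, card_order_quarter hm hK, card_order_minus hK hm H,
    card_order_plus hK hm H⟩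

/-- S1158 -/
theorem main_tori (hK : Fintype.card K = 3 ^ (2 * m + 1)) (hm : 1 ≤ m)
    (hcover : Cover K m) :
    ∀ kn ∈ ({((3 ^ (2 * m + 1) - 1) / 2, 2 * (3 ^ (2 * m + 1) - 1)), ((3 ^ (2 * m + 1) + 1) / 4, 6 * (3 ^ (2 * m + 1) + 1)),
        (3 ^ (2 * m + 1) - 3 ^ (m + 1) + 1, 6 * (3 ^ (2 * m + 1) - 3 ^ (m + 1) + 1)),
        (3 ^ (2 * m + 1) + 3 ^ (m + 1) + 1, 6 * (3 ^ (2 * m + 1) + 3 ^ (m + 1) + 1))} : Set (ℕ × ℕ)),
      ∃ A : Subgroup ↥(Cfsg.Lie.twistedG2 K (3 ^ m)), IsCyclic A ∧ Nat.card A = kn.1 ∧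
        Nat.card (Subgroup.normalizer (A : Set ↥(Cfsg.Lie.twistedG2 K (3 ^ m)))) = kn.2 ∧
        ∀ A₀ : Subgroup ↥(Cfsg.Lie.twistedG2 K (3 ^ m)), A₀ ≤ A → A₀ ≠ ⊥ →
          Subgroup.normalizer (A₀ : Set ↥(Cfsg.Lie.twistedG2 K (3 ^ m))) = Subgroup.normalizer (A : Set ↥(Cfsg.Lie.twistedG2 K (3 ^ m))) := by
  have H := hex_conclusion hK hm hcover
  obtain ⟨h3, h4⟩ := ward_hex hK hm H
  intro kn hkn
  simp only [Set.mem_insert_iff, Set.mem_singleton_iff] at hkn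
  rcases hkn with rfl | rfl | rfl | rfl
  · exact ward_split hm hK
  · exact ward_quarter hm hK
  · exact h3
  · exact h4

/-- S1159 -/
theorem main_orders (hK : Fintype.card K = 3 ^ (2 * m + 1)) (hm : 1 ≤ m)
    (hcover : Cover K m)
    (hexp9 : ∀ (g : ↥(twistedG2 K (3 ^ m))) (k : ℕ), orderOf g = 3 ^ k → orderOf g ∣ 9)
    (hex9 : ∃ g : ↥(twistedG2 K (3 ^ m)), orderOf g = 9) (d : ℕ) :
    (∃ g : ↥(Cfsg.Lie.twistedG2 K (3 ^ m)), orderOf g = d) ↔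
      (d ∣ 6 ∨ d ∣ 9 ∨ d ∣ 3 ^ (2 * m + 1) - 1 ∨ d ∣ (3 ^ (2 * m + 1) + 1) / 2 ∨
        d ∣ 3 ^ (2 * m + 1) - 3 ^ (m + 1) + 1 ∨ d ∣ 3 ^ (2 * m + 1) + 3 ^ (m + 1) + 1) := by
  have hfin := Cfsg.Agent.ReeL.finite_twisted (K := K) (m := m) hK
  have H := hex_conclusion hK hm hcover
  constructor
  · rintro ⟨g, rfl⟩
    by_cases hg : g = 1
    · left; rw [hg, orderOf_one]; exact one_dvd _
    rcases hcover g hg with ⟨k, hk⟩ | h | h | ⟨s, hs, hsd, hsg⟩ | ⟨s, hs, hsd, hsg⟩ | h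
    · right; left; exact hexp9 g k hk
    · left; rw [h]; norm_num
    · left; rw [h]
    · right; right; left; exact orderOf_dvd_of_XH hK g s hs hsd hsg
    · right; right; right; left
      set a := g ^ (orderOf g / s) with ha
      have hao : orderOf a = s := orderOf_pow_orderOf_div (orderOf_pos g).ne' hsg
      obtain ⟨-, -, hexp⟩ := quarter_cent hK hm a s hs hsd hao
      have hga : g ∈ Subgroup.centralizer ({a} : Set ↥(twistedG2 K (3 ^ m))) := by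
        rw [Subgroup.mem_centralizer_singleton_iff, ha]
        exact ((Commute.refl g).pow_right _).eq
      exact orderOf_dvd_of_pow_eq_one (hexp g hga)
    · right; right; right; right
      exact orderOf_dvd_of_Xpi hK H g h
  · intro hd
    rcases hd with h | h | h | h | h | h
    · exact exists_order_of_dvd hm hK d (Or.inl h)
    · obtain ⟨g, hg⟩ := hex9
      obtain ⟨c, hc⟩ := h
      refine ⟨g ^ c, ?_⟩
      have hc0 : c ≠ 0 := by rintro rfl; simp at hc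
      rw [orderOf_pow' _ hc0, hg, hc, Nat.gcd_eq_right (Dvd.intro_left _ rfl),
        Nat.mul_div_cancel _ (Nat.pos_of_ne_zero hc0)]
    · exact exists_order_of_dvd hm hK d (Or.inr (Or.inl h))
    · exact exists_order_of_dvd hm hK d (Or.inr (Or.inr h))
    · exact exists_order_hex hK hm H d (Or.inl h)
    · exact exists_order_hex hK hm H d (Or.inr h)

end

end Cfsg.Agent.ReeHex
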