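import Mathlib

/-!
# Linear algebra for the `q² - q + 1` tori of the small Ree groups (lead)

An operator of prime order `s` on a `(d+1)`-dimensional space over `F_q`, where `s ∣ q^j - 1` with
`1 ≤ j ≤ d + 1` only for `j = d`, has a cyclic vector; hence its commutant is commutative.
-/

set_option autoImplicit false

namespace Cfsg.Agent.ReeHex

open Polynomial Module

section lin

variable {K V : Type*} [Field K] [AddCommGroup V] [Module K V]

theorem commute_aeval (A B : Module.End K V) (h : Commute A B) (r : K[X]) :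
    Commute (aeval A r) B :=
  (Algebra.commute_of_mem_adjoin_singleton_of_commute
    (aeval_mem_adjoin_singleton K A (p := r)) h.symm).symm

/-- if `A` has a cyclic vector, its commutant is commutative -/
theorem commute_of_cyclic (A B B' : Module.End K V) (v₀ : V)
    (hcyc : ∀ v, ∃ p : K[X], v = aeval A p v₀) (hB : Commute A B) (hB' : Commute A B') :
    B * B' = B' * B := by
  obtain ⟨p, hp⟩ := hcyc (B v₀)
  obtain ⟨p', hp'⟩ := hcyc (B' v₀)
  have c1 : ∀ r : K[X], ∀ v, B (aeval A r v) = aeval A r (B v) := fun r v => by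
    have := commute_aeval A B hB r
    exact (LinearMap.congr_fun this.eq v).symm
  have c2 : ∀ r : K[X], ∀ v, B' (aeval A r v) = aeval A r (B' v) := fun r v => by
    have := commute_aeval A B' hB' r
    exact (LinearMap.congr_fun this.eq v).symm
  have c3 : ∀ r r' : K[X], ∀ v, aeval A r (aeval A r' v) = aeval A r' (aeval A r v) := by
    intro r r' v
    have : aeval A r * aeval A r' = aeval A r' * aeval A r := by
      rw [← map_mul, ← map_mul, mul_comm]
    exact LinearMap.congr_fun this v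
  ext v
  obtain ⟨r, rfl⟩ := hcyc v
  show B (B' (aeval A r v₀)) = B' (B (aeval A r v₀))
  rw [c2, c1, c1, c2, hp, hp', c1, c2, hp, hp', c3 p' p]

end lin

section count

variable {K V : Type*} [Field K] [AddCommGroup V] [Module K V]

theorem card_modEq_fixed [Finite V] (A : Module.End K V) (s : ℕ) [Fact s.Prime] (hA : A ^ s = 1)
    (U : Submodule K V) (hU : ∀ u ∈ U, A u ∈ U) :
    Nat.card U ≡ Nat.card ↥(U ⊓ LinearMap.ker (A - 1)) [MOD s] := by
  classical
  have : Fintype U := Fintype.ofFinite U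
  let f : Function.End U := fun u => ⟨A u, hU u u.2⟩
  have hfk : ∀ k : ℕ, ∀ u : U, (((f ^ k) u : U) : V) = (A ^ k) (u : V) := by
    intro k
    induction k with
    | zero => intro u; rfl
    | succ k ih =>
      intro u
      rw [pow_succ, pow_succ]
      show (((f ^ k) (f u) : U) : V) = (A ^ k) (A u)
      rw [ih]
  have hf : f ^ s ^ 1 = 1 := by
    funext u
    apply Subtype.ext
    rw [pow_one, hfk, hA]
    rfl
  have h := Equiv.Perm.card_fixedPoints_modEq (p := s) (n := 1) hf
  rw [← Nat.card_eq_fintype_card, ← Nat.card_eq_fintype_card] at h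
  have e : Nat.card ↥(Function.fixedPoints f) = Nat.card ↥(U ⊓ LinearMap.ker (A - 1)) := by
    apply Nat.card_congr
    refine ⟨fun u => ⟨(u : U), (u : U).2, ?_⟩, fun x => ⟨⟨x, x.2.1⟩, ?_⟩, ?_, ?_⟩
    · have h1 : f u = u := u.2
      have h2 : A ((u : U) : V) = ((u : U) : V) := congrArg Subtype.val h1
      show ((u : U) : V) ∈ LinearMap.ker (A - 1)
      rw [LinearMap.mem_ker, LinearMap.sub_apply, h2]
      simp
    · show f ⟨x, x.2.1⟩ = ⟨x, x.2.1⟩
      apply Subtype.ext
      have h2 : (x : V) ∈ LinearMap.ker (A - 1) := x.2.2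
      rw [LinearMap.mem_ker, LinearMap.sub_apply, sub_eq_zero] at h2
      exact h2
    · intro u; rfl
    · intro x; rfl
  rw [e] at h
  exact h

/-- dimension form -/
theorem dvd_pow_finrank_sub [Fintype K] [Finite V] (A : Module.End K V) (s : ℕ) [Fact s.Prime]
    (hsq : ¬ s ∣ Fintype.card K) (hA : A ^ s = 1)
    (U : Submodule K V) (hU : ∀ u ∈ U, A u ∈ U) :
    s ∣ Fintype.card K ^ (finrank K U - finrank K ↥(U ⊓ LinearMap.ker (A - 1))) - 1 := by
  have hsp : s.Prime := Fact.out
  have h := card_modEq_fixed A s hA U hU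
  have : Module.Finite K V := Module.Finite.of_finite
  rw [Module.natCard_eq_pow_finrank (K := K) (V := U),
    Module.natCard_eq_pow_finrank (K := K) (V := ↥(U ⊓ LinearMap.ker (A - 1))),
    Nat.card_eq_fintype_card] at h
  have hle : finrank K ↥(U ⊓ LinearMap.ker (A - 1)) ≤ finrank K U :=
    Submodule.finrank_mono inf_le_left
  set q := Fintype.card K
  set a := finrank K U
  set b := finrank K ↥(U ⊓ LinearMap.ker (A - 1))
  have hq : 1 ≤ q := Fintype.card_pos
  have hdvd : s ∣ q ^ a - q ^ b := (Nat.modEq_iff_dvd' (Nat.pow_le_pow_right hq hle)).1 h.symm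
  have e : q ^ a - q ^ b = q ^ b * (q ^ (a - b) - 1) := by
    rw [Nat.mul_sub, ← pow_add, mul_one, Nat.add_sub_cancel' hle]
  rw [e] at hdvd
  rcases hsp.dvd_mul.1 hdvd with h' | h'
  · exact absurd (hsp.dvd_of_dvd_pow h') hsq
  · exact h'

theorem natCast_ne_zero_of_not_dvd_card [Fintype K] (s : ℕ) (hs : s.Prime)
    (hsq : ¬ s ∣ Fintype.card K) : (s : K) ≠ 0 := by
  intro h
  obtain ⟨p, hp⟩ := CharP.exists K
  have hpp : p.Prime := (CharP.char_is_prime_or_zero K p).resolve_right (by
    intro h0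
    subst h0
    have := CharP.charP_to_charZero K
    have hc : ((Fintype.card K : ℕ) : K) = 0 := Nat.cast_card_eq_zero K
    exact Fintype.card_ne_zero (Nat.cast_eq_zero.1 hc))
  have h1 : p ∣ s := (CharP.cast_eq_zero_iff K p s).1 h
  have h2 : p ∣ Fintype.card K := (CharP.cast_eq_zero_iff K p _).1 (Nat.cast_card_eq_zero K)
  have : p = s := (Nat.prime_dvd_prime_iff_eq hpp hs).1 h1
  exact hsq (this ▸ h2)

theorem exists_cyclic [Fintype K] [Finite V] (A : Module.End K V) (s d : ℕ) [Fact s.Prime]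
    (hsq : ¬ s ∣ Fintype.card K) (hA : A ^ s = 1) (hA1 : A ≠ 1)
    (hdim : finrank K V = d + 1)
    (honly : ∀ j, 1 ≤ j → j ≤ d + 1 → s ∣ Fintype.card K ^ j - 1 → j = d) :
    ∃ v₀ : V, ∀ v, ∃ p : K[X], v = aeval A p v₀ := by
  classical
  have hsp : s.Prime := Fact.out
  have : Module.Finite K V := Module.Finite.of_finite
  have hsK : (s : K) ≠ 0 := natCast_ne_zero_of_not_dvd_card s hsp hsq
  set V₁ : Submodule K V := LinearMap.ker (A - 1) with hV₁
  have hmemV₁ : ∀ v, v ∈ V₁ ↔ A v = v := fun v => by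
    rw [hV₁, LinearMap.mem_ker, LinearMap.sub_apply, sub_eq_zero]
    rfl
  set N : Module.End K V := ∑ i ∈ Finset.range s, A ^ i with hN
  have hAN : (A - 1) * N = 0 := by
    rw [hN, mul_geom_sum, hA, sub_self]
  have hNV₁ : ∀ v, N v ∈ V₁ := fun v => by
    rw [hV₁, LinearMap.mem_ker]
    have := LinearMap.congr_fun hAN v
    exact this
  have hpowfix : ∀ v ∈ V₁, ∀ i : ℕ, (A ^ i) v = v := by
    intro v hv i
    induction i with
    | zero => rfl
    | succ i ih =>
      rw [pow_succ]
      show (A ^ i) (A v) = v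
      rw [(hmemV₁ v).1 hv, ih]
  have hNfix : ∀ v ∈ V₁, N v = (s : K) • v := by
    intro v hv
    rw [hN, LinearMap.sum_apply, Finset.sum_congr rfl (fun i _ => hpowfix v hv i)]
    simp [Nat.cast_smul_eq_nsmul]
  -- step (i): `finrank V₁ = 1`
  have h1 : finrank K V₁ = 1 := by
    have h := dvd_pow_finrank_sub A s hsq hA ⊤ (fun _ _ => Submodule.mem_top)
    rw [top_inf_eq, finrank_top, hdim] at h
    have hle : finrank K V₁ ≤ d + 1 := hdim ▸ Submodule.finrank_le V₁
    by_cases hb : finrank K V₁ = d + 1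
    · exfalso
      have htop : V₁ = ⊤ := Submodule.eq_top_of_finrank_eq (hb.trans hdim.symm)
      apply hA1
      ext v
      exact (hmemV₁ v).1 (htop ▸ Submodule.mem_top)
    · have := honly (d + 1 - finrank K V₁) (by omega) (by omega) h
      omega
  -- a nonzero fixed vector
  obtain ⟨y, hy0⟩ : ∃ y : V₁, y ≠ 0 := by
    have : 0 < finrank K V₁ := by omega
    have := Module.finrank_pos_iff_exists_ne_zero.1 this
    exact this
  have hyV : (y : V) ∈ V₁ := y.2
  have hy0' : (y : V) ≠ 0 := fun h => hy0 (Subtype.ext h)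
  have hNy : N (y : V) ≠ 0 := by
    rw [hNfix _ hyV]
    exact smul_ne_zero hsK hy0'
  obtain ⟨x, hx⟩ : ∃ x : V, x ∉ V₁ := by
    by_contra hcon
    push Not at hcon
    apply hA1
    ext v
    exact (hmemV₁ v).1 (hcon v)
  obtain ⟨v₀, hv₀1, hv₀N⟩ : ∃ v₀ : V, v₀ ∉ V₁ ∧ N v₀ ≠ 0 := by
    by_cases hNx : N x = 0
    · refine ⟨x + y, fun h => hx ?_, ?_⟩
      · have := V₁.sub_mem h hyV
        simpa using this
      · rw [map_add, hNx, zero_add]
        exact hNy
    · exact ⟨x, hx, hNx⟩
  refine ⟨v₀, ?_⟩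
  let φ : K[X] →ₗ[K] V := (LinearMap.applyₗ v₀).comp (aeval A).toLinearMap
  have hφ : ∀ p : K[X], φ p = aeval A p v₀ := fun p => rfl
  set U : Submodule K V := LinearMap.range φ with hU
  have hUinv : ∀ u ∈ U, A u ∈ U := by
    rintro u ⟨p, rfl⟩
    refine ⟨X * p, ?_⟩
    rw [hφ, hφ, map_mul, aeval_X]
    rfl
  have hv₀U : v₀ ∈ U := ⟨1, by rw [hφ, map_one]; rfl⟩
  have hNU : N v₀ ∈ U := by
    refine ⟨∑ i ∈ Finset.range s, X ^ i, ?_⟩
    rw [hφ, map_sum]
    simp only [map_pow, aeval_X]
    rw [hN]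
  have h := dvd_pow_finrank_sub A s hsq hA U hUinv
  have hb1 : finrank K ↥(U ⊓ V₁) = 1 := by
    have hle : finrank K ↥(U ⊓ V₁) ≤ 1 := h1 ▸ Submodule.finrank_mono inf_le_right
    have hpos : 0 < finrank K ↥(U ⊓ V₁) := by
      apply Module.finrank_pos_iff_exists_ne_zero.2
      exact ⟨⟨N v₀, hNU, hNV₁ v₀⟩, fun h0 => hv₀N (congrArg Subtype.val h0)⟩
    omega
  have hlt : finrank K ↥(U ⊓ V₁) < finrank K U := by
    apply Submodule.finrank_lt_finrank_of_lt
    refine lt_of_le_of_ne inf_le_left (fun he => hv₀1 ?_)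
    have : v₀ ∈ U ⊓ V₁ := by
      rw [he]
      exact hv₀U
    exact this.2
  have hleU : finrank K U ≤ d + 1 := hdim ▸ Submodule.finrank_le U
  rw [← hV₁, hb1] at h
  have hj := honly (finrank K U - 1) (by omega) (by omega) h
  have htop : U = ⊤ := Submodule.eq_top_of_finrank_eq (by omega)
  intro v
  have hv : v ∈ U := htop ▸ Submodule.mem_top
  obtain ⟨p, hp⟩ := hv
  exact ⟨p, hp.symm⟩

end count

section mat

variable {K : Type*} [Field K] [Fintype K] {ι : Type*} [Fintype ι] [DecidableEq ι]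

/-- matrix form: the commutant of a matrix of prime order `s` is commutative -/
theorem comm_of_order (A B B' : Matrix ι ι K) (s d : ℕ) [Fact s.Prime]
    (hsq : ¬ s ∣ Fintype.card K) (hA : A ^ s = 1) (hA1 : A ≠ 1)
    (hdim : Fintype.card ι = d + 1)
    (honly : ∀ j, 1 ≤ j → j ≤ d + 1 → s ∣ Fintype.card K ^ j - 1 → j = d)
    (hB : A * B = B * A) (hB' : A * B' = B' * A) : B * B' = B' * B := by
  let e : Matrix ι ι K ≃ₐ[K] Module.End K (ι → K) := Matrix.toLinAlgEquiv'
  have h1 : e A ^ s = 1 := by rw [← map_pow, hA, map_one]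
  have h2 : e A ≠ 1 := fun h => hA1 (e.injective (h.trans (map_one e).symm))
  have h3 : finrank K (ι → K) = d + 1 := by rw [Module.finrank_fintype_fun_eq_card, hdim]
  obtain ⟨v₀, hv₀⟩ := exists_cyclic (e A) s d hsq h1 h2 h3 honly
  have h4 : Commute (e A) (e B) := by
    show e A * e B = e B * e A
    rw [← map_mul, ← map_mul, hB]
  have h5 : Commute (e A) (e B') := by
    show e A * e B' = e B' * e A
    rw [← map_mul, ← map_mul, hB']
  have := commute_of_cyclic (e A) (e B) (e B') v₀ hv₀ h4 h5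
  rw [← map_mul, ← map_mul] at this
  exact e.injective this

/-- group form: in a group with a faithful `(d+1)`-dimensional representation over `F_q`, the
centraliser of an element of such a prime order `s` is commutative -/
theorem comm_of_faithful {G : Type*} [Group G] (ρ : G →* GL ι K) (hρ : Function.Injective ρ)
    (a : G) (s d : ℕ) [Fact s.Prime] (hsq : ¬ s ∣ Fintype.card K) (ha : orderOf a = s)
    (hdim : Fintype.card ι = d + 1)
    (honly : ∀ j, 1 ≤ j → j ≤ d + 1 → s ∣ Fintype.card K ^ j - 1 → j = d)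
    (x y : G) (hx : x * a = a * x) (hy : y * a = a * y) : x * y = y * x := by
  have hsp : s.Prime := Fact.out
  have has : a ^ s = 1 := ha ▸ pow_orderOf_eq_one a
  have ha1 : a ≠ 1 := by
    rintro rfl
    rw [orderOf_one] at ha
    exact hsp.one_lt.ne ha
  have hA : ((ρ a : GL ι K) : Matrix ι ι K) ^ s = 1 := by
    rw [← Units.val_pow_eq_pow_val, ← map_pow, has, map_one, Units.val_one]
  have hA1 : ((ρ a : GL ι K) : Matrix ι ι K) ≠ 1 := by
    intro h
    apply ha1
    apply hρ
    rw [map_one]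
    exact Units.ext h
  have hB : ((ρ a : GL ι K) : Matrix ι ι K) * ((ρ x : GL ι K) : Matrix ι ι K)
      = ((ρ x : GL ι K) : Matrix ι ι K) * ((ρ a : GL ι K) : Matrix ι ι K) := by
    rw [← Units.val_mul, ← Units.val_mul, ← map_mul, ← map_mul, hx]
  have hB' : ((ρ a : GL ι K) : Matrix ι ι K) * ((ρ y : GL ι K) : Matrix ι ι K)
      = ((ρ y : GL ι K) : Matrix ι ι K) * ((ρ a : GL ι K) : Matrix ι ι K) := by
    rw [← Units.val_mul, ← Units.val_mul, ← map_mul, ← map_mul, hy]
  have := comm_of_order _ _ _ s d hsq hA hA1 hdim honly hB hB'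
  apply hρ
  apply Units.ext
  rw [map_mul, map_mul, Units.val_mul, Units.val_mul]
  exact this

end mat

end Cfsg.Agent.ReeHex
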