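import Cfsg.Agent.Lib.Lead.ReeTor.Part2
import Cfsg.Agent.Lib.Lead.ReeHex.LinCyc
import Cfsg.Agent.Lib.Helper8.ReeSyl.Main
import Mathlib

/-!
# Small Ree groups: the centraliser of an element of prime order dividing `q² - q + 1` (lead)
-/

set_option autoImplicit false
set_option maxRecDepth 100000

namespace Cfsg.Agent.ReeHex

open Cfsg.Lie Cfsg.Agent.Lib.Helper5.Chev Cfsg.Agent.Lib.Helper5.GA Cfsg.Agent.Lib.Helper5.Tw
open Cfsg.Agent.Lib.Helper5.Frob Cfsg.Agent.Lib.Helper5.SL2P Cfsg.Agent.Lib.Helper5.Ree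
open Cfsg.Agent.ReeL Cfsg.Agent.Lib.Helper8.ReeSyl Cfsg.Agent.ReeTor

section general

/-- a finite commutative group all of whose `p`-subgroups are cyclic is cyclic -/
theorem isCyclic_of_comm_of_pgroups {C : Type*} [Group C] [Finite C]
    (hc : ∀ a b : C, a * b = b * a)
    (h : ∀ (p : ℕ) [Fact p.Prime] (Q : Subgroup C), IsPGroup p Q → IsCyclic Q) : IsCyclic C := by
  let inst : CommGroup C := { (inferInstance : Group C) with mul_comm := hc }
  have hZ : @IsZGroup C inst.toGroup := ⟨fun p hp P => by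
    have := Fact.mk hp
    exact h p P P.isPGroup'⟩
  exact @IsZGroup.instIsCyclicOfFiniteOfIsNilpotent C inst.toGroup _ hZ inferInstance

end general

section arith

/-- arithmetic of a prime divisor of `q² - q + 1` -/
theorem hex_arith {m s : ℕ} (hs : s.Prime) (hsd : s ∣ 3 ^ (2 * m + 1) * (3 ^ (2 * m + 1) - 1) + 1) :
    3 < s ∧ ¬ s ∣ 3 ^ (2 * m + 1) ∧ ¬ s ∣ 3 ^ (2 * m + 1) - 1 ∧ ¬ s ∣ 3 ^ (2 * m + 1) + 1 := by
  have h8 := q_mod8 m
  have h3 := q_mod3 m
  have hq1 : 1 ≤ 3 ^ (2 * m + 1) := Nat.one_le_pow _ _ (by norm_num)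
  generalize 3 ^ (2 * m + 1) = q at hsd h8 h3 hq1
  have h2 : s ≠ 2 := by
    rintro rfl
    obtain ⟨k, hk⟩ := hsd
    have : q * (q - 1) % 2 = 0 := by
      rcases Nat.even_or_odd q with ⟨j, hj⟩ | ⟨j, hj⟩
      · subst hj
        rw [show (j + j) * (j + j - 1) = 2 * (j * (j + j - 1)) by ring]
        omega
      · subst hj
        rw [show 2 * j + 1 - 1 = 2 * j by omega, show (2 * j + 1) * (2 * j) = 2 * ((2 * j + 1) * j) by ring]
        omega
    omega
  have h3' : s ≠ 3 := by
    rintro rfl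
    obtain ⟨k, hk⟩ := hsd
    have : q * (q - 1) % 3 = 0 := by
      obtain ⟨j, rfl⟩ : ∃ j, q = 3 * j := ⟨q / 3, by omega⟩
      rw [mul_assoc]
      omega
    omega
  have hs3 : 3 < s := by
    have := hs.two_le
    omega
  have : Fact s.Prime := ⟨hs⟩
  have hC := (dvd_quad_iff (p := s) q hq1).1 hsd
  refine ⟨hs3, ?_, ?_, ?_⟩
  · intro h
    have hx : (q : ZMod s) = 0 := (ZMod.natCast_eq_zero_iff _ _).2 h
    rw [hx] at hC
    exact one_ne_zero (by linear_combination hC)
  · intro h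
    have hx := (dvd_pred_iff (p := s) q hq1).1 h
    rw [hx] at hC
    exact one_ne_zero (by linear_combination hC)
  · intro h
    have hx := (dvd_succ_iff (p := s) q).1 h
    rw [hx] at hC
    exact zmod_three_ne hs3 (by linear_combination hC)

end arith

section

variable {K : Type*} [Field K] [Fintype K] [CharP K 3] {m : ℕ}

/-- the centraliser of an element of prime order `s ∣ q² - q + 1` is commutative -/
theorem hex_comm (hK : Fintype.card K = 3 ^ (2 * m + 1)) (hm : 1 ≤ m)
    (a : ↥(twistedG2 K (3 ^ m))) (s : ℕ) (hs : s.Prime)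
    (hsd : s ∣ 3 ^ (2 * m + 1) * (3 ^ (2 * m + 1) - 1) + 1) (ha : orderOf a = s)
    (x y : ↥(twistedG2 K (3 ^ m))) (hx : x * a = a * x) (hy : y * a = a * y) : x * y = y * x := by
  classical
  have : Fact s.Prime := ⟨hs⟩
  obtain ⟨hs3, hsq, -, -⟩ := hex_arith hs hsd
  have hq1 : 1 ≤ 3 ^ (2 * m + 1) := Nat.one_le_pow _ _ (by norm_num)
  have hC := (dvd_quad_iff (p := s) _ hq1).1 hsd
  have honly : ∀ j, 1 ≤ j → j ≤ 6 + 1 → s ∣ Fintype.card K ^ j - 1 → j = 6 := by
    intro j hj1 hj7 hj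
    rw [hK, dvd_pow_sub_one_iff _ j hq1] at hj
    exact zmod_six hs3 _ hC j hj1 hj7 hj
  exact comm_of_faithful (rhoT hK) (rhoT_injective hK hm) a s 6 (by rw [hK]; exact hsq) ha
    (by rw [card_Jt]) honly x y hx hy

/-- the order of the centraliser of the standard involution divides `2 |SL₂(q)|` -/
theorem card_cent_aG_dvd (hK : Fintype.card K = 3 ^ (2 * m + 1)) :
    Nat.card ↥(Subgroup.centralizer ({aG K m} : Set ↥(twistedG2 K (3 ^ m))))
      ∣ 2 * ((3 ^ (2 * m + 1) + 1) * (3 ^ (2 * m + 1) * (3 ^ (2 * m + 1) - 1))) := by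
  classical
  have haH : ((aG K m : ↥(twistedG2 K (3 ^ m))) : GL chevG2.Idx K) ∈ chevG2.diagonalSubgroup K :=
    zz_mem_diag
  obtain ⟨e⟩ := cent_iso hK (aG K m) haH (aG_ne_one hK) aG_sq
  have hHcard : Nat.card ↥(Subgroup.centralizer ({aG K m} : Set ↥(twistedG2 K (3 ^ m))))
      = 2 * Nat.card (Matrix.ProjectiveSpecialLinearGroup (Fin 2) K) := by
    rw [Nat.card_congr e.toEquiv, Nat.card_prod]
    congr 1
    simp
  have hSL := Cfsg.Agent.Lib.Helper8.FourOrb.card_sl2 (F := K) (Fintype.card K) (by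
    rw [hK]
    calc 2 ≤ 3 ^ 1 := by norm_num
      _ ≤ 3 ^ (2 * m + 1) := Nat.pow_le_pow_right (by norm_num) (by omega)) rfl
  rw [hK] at hSL
  have hL := Subgroup.card_eq_card_quotient_mul_card_subgroup
    (Subgroup.center (Matrix.SpecialLinearGroup (Fin 2) K))
  rw [hHcard]
  apply Nat.mul_dvd_mul_left
  rw [← hSL, hL]
  exact Dvd.intro _ rfl

/-- an element of prime order `s ∣ q² - q + 1` commutes with no involution -/
theorem no_invol_hex (hK : Fintype.card K = 3 ^ (2 * m + 1)) (hm : 1 ≤ m)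
    (a t : ↥(twistedG2 K (3 ^ m))) (s : ℕ) (hs : s.Prime)
    (hsd : s ∣ 3 ^ (2 * m + 1) * (3 ^ (2 * m + 1) - 1) + 1) (ha : orderOf a = s)
    (ht : t * t = 1) (hta : t * a = a * t) : t = 1 := by
  by_contra ht1
  obtain ⟨hs3, hsq, hsm, hsp⟩ := hex_arith hs hsd
  obtain ⟨g, hg⟩ := invol_conj hK hm t ht ht1
  have hfin := Cfsg.Agent.ReeL.finite_twisted (K := K) (m := m) hK
  have hmem : g⁻¹ * a * g ∈ Subgroup.centralizer ({aG K m} : Set ↥(twistedG2 K (3 ^ m))) := by
    rw [Subgroup.mem_centralizer_singleton_iff]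
    have h1 : aG K m = g⁻¹ * t * g := by rw [hg]; group
    rw [h1]
    calc g⁻¹ * a * g * (g⁻¹ * t * g) = g⁻¹ * (a * t) * g := by group
      _ = g⁻¹ * (t * a) * g := by rw [hta]
      _ = g⁻¹ * t * g * (g⁻¹ * a * g) := by group
  have has : a ^ s = 1 := ha ▸ pow_orderOf_eq_one a
  have ha1 : a ≠ 1 := by
    rintro rfl
    rw [orderOf_one] at ha
    exact hs.one_lt.ne ha
  have hord : orderOf (⟨g⁻¹ * a * g, hmem⟩ :
      ↥(Subgroup.centralizer ({aG K m} : Set ↥(twistedG2 K (3 ^ m))))) = s := by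
    have : Fact s.Prime := ⟨hs⟩
    apply orderOf_eq_prime
    · apply Subtype.ext
      show (g⁻¹ * a * g) ^ s = 1
      have : (g⁻¹ * a * g) ^ s = g⁻¹ * a ^ s * g := by
        rw [show g⁻¹ * a * g = g⁻¹ * a * g⁻¹⁻¹ by rw [inv_inv], conj_pow, inv_inv]
      rw [this, has]
      group
    · intro h
      apply ha1
      have h' : g⁻¹ * a * g = 1 := congrArg Subtype.val h
      calc a = g * (g⁻¹ * a * g) * g⁻¹ := by group
        _ = 1 := by rw [h']; group
  have hdvd : s ∣ Nat.card ↥(Subgroup.centralizer ({aG K m} : Set ↥(twistedG2 K (3 ^ m)))) :=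
    hord ▸ orderOf_dvd_natCard _
  have hdvd2 := dvd_trans hdvd (card_cent_aG_dvd hK)
  rcases hs.dvd_mul.1 hdvd2 with h | h
  · have := Nat.le_of_dvd (by norm_num) h
    omega
  · rcases hs.dvd_mul.1 h with h | h
    · exact hsp h
    · rcases hs.dvd_mul.1 h with h | h
      · exact hsq h
      · exact hsm h

/-- a commutative subgroup of the small Ree group without elements of order `2` and `3` is cyclic -/
theorem ree_isCyclic_of_comm (hK : Fintype.card K = 3 ^ (2 * m + 1)) (hm : 1 ≤ m)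
    (D : Subgroup ↥(twistedG2 K (3 ^ m)))
    (hc : ∀ x ∈ D, ∀ y ∈ D, x * y = y * x)
    (h2 : ∀ x ∈ D, x * x = 1 → x = 1) (h3 : ∀ x ∈ D, x ^ 3 = 1 → x = 1) : IsCyclic D := by
  have hfin := Cfsg.Agent.ReeL.finite_twisted (K := K) (m := m) hK
  apply isCyclic_of_comm_of_pgroups
  · intro a b
    exact Subtype.ext (hc a a.2 b b.2)
  · intro p _ Q hQ
    have hpp : p.Prime := Fact.out
    by_cases hp3 : 3 < p
    · refine pgroup_cyclic_of_injective p D.subtype D.subtype_injective ?_ Q hQ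
      intro Q' hQ'
      obtain ⟨P, hP⟩ := hQ'.exists_le_sylow
      have := sylow_cyclic hm hK hp3 P
      exact Subgroup.isCyclic_of_le hP
    · obtain ⟨n, hn⟩ := IsPGroup.iff_card.1 hQ
      cases n with
      | zero =>
        rw [pow_zero] at hn
        have : Subsingleton Q := (Nat.card_eq_one_iff_unique.1 hn).1
        exact isCyclic_of_subsingleton
      | succ n =>
        exfalso
        have hdvd : p ∣ Nat.card Q := by rw [hn, pow_succ]; exact Dvd.intro_left _ rfl
        obtain ⟨x, hx⟩ := exists_prime_orderOf_dvd_card' p hdvd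
        have hx1 : x ≠ 1 := by
          rintro rfl
          rw [orderOf_one] at hx
          exact hpp.one_lt.ne hx
        have hxp : x ^ p = 1 := hx ▸ pow_orderOf_eq_one x
        have hp23 : p = 2 ∨ p = 3 := by
          have := hpp.two_le
          omega
        apply hx1
        apply Subtype.ext
        apply Subtype.ext
        rcases hp23 with rfl | rfl
        · apply h2 _ (x : D).2
          have : ((x : D) : ↥(twistedG2 K (3 ^ m))) ^ 2 = 1 := by
            have := congrArg (fun z : Q => ((z : D) : ↥(twistedG2 K (3 ^ m)))) hxp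
            simpa using this
          rw [← sq]
          exact this
        · apply h3 _ (x : D).2
          have := congrArg (fun z : Q => ((z : D) : ↥(twistedG2 K (3 ^ m)))) hxp
          simpa using this

/-- the centraliser of an element of prime order `s ∣ q² - q + 1` is cyclic -/
theorem hex_cent_cyclic (hK : Fintype.card K = 3 ^ (2 * m + 1)) (hm : 1 ≤ m)
    (a : ↥(twistedG2 K (3 ^ m))) (s : ℕ) (hs : s.Prime)
    (hsd : s ∣ 3 ^ (2 * m + 1) * (3 ^ (2 * m + 1) - 1) + 1) (ha : orderOf a = s) :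
    IsCyclic ↥(Subgroup.centralizer ({a} : Set ↥(twistedG2 K (3 ^ m)))) := by
  obtain ⟨hs3, hsq, hsm, hsp⟩ := hex_arith hs hsd
  apply ree_isCyclic_of_comm hK hm
  · intro x hx y hy
    rw [Subgroup.mem_centralizer_singleton_iff] at hx hy
    exact hex_comm hK hm a s hs hsd ha x y hx hy
  · intro x hx hxx
    rw [Subgroup.mem_centralizer_singleton_iff] at hx
    exact no_invol_hex hK hm a x s hs hsd ha hxx hx
  · intro x hx hxx
    rw [Subgroup.mem_centralizer_singleton_iff] at hx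
    exact no_three hK a x s hs hs3 ((Nat.Prime.coprime_iff_not_dvd hs).2 hsm) ha hxx hx

end

end Cfsg.Agent.ReeHex
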