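import Cfsg.Agent.Lib.Lead.ReeHex.Cent
import Cfsg.Agent.Lib.Helper5.SameOrdPA
import Mathlib

/-!
# Small Ree groups: conjugacy of cyclic subgroups of toral order (lead)
-/

set_option autoImplicit false
set_option maxRecDepth 100000

namespace Cfsg.Agent.ReeHex

open Cfsg.Lie Cfsg.Agent.Lib.Helper5.Chev Cfsg.Agent.Lib.Helper5.GA Cfsg.Agent.Lib.Helper5.Tw
open Cfsg.Agent.Lib.Helper5.Frob Cfsg.Agent.Lib.Helper5.SL2P Cfsg.Agent.Lib.Helper5.Ree
open Cfsg.Agent.ReeL Cfsg.Agent.Lib.Helper8.ReeSyl Cfsg.Agent.ReeTor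
open Cfsg.Agent.Lib.Helper5.SameOrdPA

section general

variable {G : Type*} [Group G] [Finite G]

omit [Finite G] in
theorem card_map_conj (A : Subgroup G) (g : G) :
    Nat.card (A.map (MulAut.conj g).toMonoidHom) = Nat.card A :=
  (Nat.card_congr (A.equivMapOfInjective _ (MulAut.conj g).injective).toEquiv).symm

theorem conj_of_cyclic_local (d s : ℕ) [Fact s.Prime] (hsd : s ∣ d)
    (hsyl : ∀ P : Sylow s G, IsCyclic (P : Subgroup G))
    (hloc : ∀ b : G, orderOf b = s → ∃ D : Subgroup G, IsCyclic D ∧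
      ∀ X : Subgroup G, IsCyclic X → Nat.card X = d → b ∈ X → X ≤ D)
    (A B : Subgroup G) (hA : IsCyclic A) (hB : IsCyclic B) (hAd : Nat.card A = d)
    (hBd : Nat.card B = d) : ∃ g : G, B = A.map (MulAut.conj g).toMonoidHom := by
  have hsp : s.Prime := Fact.out
  obtain ⟨x, hx⟩ := exists_prime_orderOf_dvd_card' (G := A) s (hAd ▸ hsd)
  obtain ⟨y, hy⟩ := exists_prime_orderOf_dvd_card' (G := B) s (hBd ▸ hsd)
  have hao : orderOf (x : G) = s := by rw [Subgroup.orderOf_coe, hx]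
  have hbo : orderOf (y : G) = s := by rw [Subgroup.orderOf_coe, hy]
  have hpa : IsPGroup s (Subgroup.zpowers (x : G)) := by
    apply IsPGroup.of_card (n := 1)
    rw [Nat.card_zpowers, hao, pow_one]
  have hpb : IsPGroup s (Subgroup.zpowers (y : G)) := by
    apply IsPGroup.of_card (n := 1)
    rw [Nat.card_zpowers, hbo, pow_one]
  obtain ⟨P₁, hP₁⟩ := hpa.exists_le_sylow
  obtain ⟨P₂, hP₂⟩ := hpb.exists_le_sylow
  obtain ⟨g, hg⟩ := MulAction.exists_smul_eq G P₁ P₂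
  refine ⟨g, ?_⟩
  have hcyc2 := hsyl P₂
  have ha' : g * (x : G) * g⁻¹ ∈ (P₂ : Subgroup G) := by
    rw [← hg, Sylow.coe_subgroup_smul]
    exact ⟨(x : G), hP₁ (Subgroup.mem_zpowers _), rfl⟩
  have hao' : orderOf (g * (x : G) * g⁻¹) = s := by
    have := MulEquiv.orderOf_eq (MulAut.conj g) (x : G)
    rw [MulAut.conj_apply] at this
    rw [this, hao]
  have heq : Subgroup.zpowers (g * (x : G) * g⁻¹) = Subgroup.zpowers (y : G) := by
    apply eq_of_card_eq_of_le_cyclic (P₂ : Subgroup G)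
    · rw [Subgroup.zpowers_le]; exact ha'
    · exact hP₂
    · rw [Nat.card_zpowers, Nat.card_zpowers, hao', hbo]
  set A' := A.map (MulAut.conj g).toMonoidHom with hA'
  have hbA' : (y : G) ∈ A' := by
    have h1 : (y : G) ∈ Subgroup.zpowers (g * (x : G) * g⁻¹) := heq ▸ Subgroup.mem_zpowers _
    have h2 : Subgroup.zpowers (g * (x : G) * g⁻¹) ≤ A' := by
      rw [Subgroup.zpowers_le]
      exact ⟨(x : G), x.2, rfl⟩
    exact h2 h1
  have hA'c : IsCyclic A' :=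
    isCyclic_of_surjective (A.equivMapOfInjective _ (MulAut.conj g).injective)
      (A.equivMapOfInjective _ (MulAut.conj g).injective).surjective
  have hA'd : Nat.card A' = d := by rw [hA', card_map_conj, hAd]
  obtain ⟨D, hDc, hD⟩ := hloc (y : G) hbo
  have h1 := hD A' hA'c hA'd hbA'
  have h2 := hD B hB hBd y.2
  exact (eq_of_card_eq_of_le_cyclic D h1 h2 (hA'd.trans hBd.symm)).symm

end general

theorem cyclic_le_centralizer {G : Type*} [Group G] (X : Subgroup G) (hX : IsCyclic X) (b : G)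
    (hb : b ∈ X) : X ≤ Subgroup.centralizer ({b} : Set G) := by
  intro x hx
  rw [Subgroup.mem_centralizer_singleton_iff]
  have := (isMulCommutative_iff.1 (IsCyclic.isMulCommutative (α := X))) ⟨x, hx⟩ ⟨b, hb⟩
  exact congrArg Subtype.val this

/-- `(q - r + 1) (q + r + 1) = q² - q + 1` -/
theorem hex_factor (m : ℕ) :
    (3 ^ (2 * m + 1) - 3 ^ (m + 1) + 1) * (3 ^ (2 * m + 1) + 3 ^ (m + 1) + 1)
      = 3 ^ (2 * m + 1) * (3 ^ (2 * m + 1) - 1) + 1 := by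
  have e1 : 3 ^ (2 * m + 1) = 3 * (3 ^ m) ^ 2 := by ring
  have e2 : 3 ^ (m + 1) = 3 * 3 ^ m := by ring
  rw [e1, e2]
  have ha : 1 ≤ 3 ^ m := Nat.one_le_pow _ _ (by norm_num)
  generalize 3 ^ m = a at ha
  obtain ⟨k, rfl⟩ : ∃ k, a = k + 1 := ⟨a - 1, by omega⟩
  have h1 : 3 * (k + 1) ^ 2 - 3 * (k + 1) = 3 * k * (k + 1) := by
    have : 3 * (k + 1) ^ 2 = 3 * k * (k + 1) + 3 * (k + 1) := by ring
    omega
  have h2 : 3 * (k + 1) ^ 2 - 1 = 3 * k ^ 2 + 6 * k + 2 := by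
    have : 3 * (k + 1) ^ 2 = 3 * k ^ 2 + 6 * k + 2 + 1 := by ring
    omega
  rw [h1, h2]
  ring

section

variable {K : Type*} [Field K] [Fintype K] [CharP K 3] {m : ℕ}

theorem local_split (hK : Fintype.card K = 3 ^ (2 * m + 1)) (d s : ℕ) (hs : s.Prime)
    (hsd : s ∣ (3 ^ (2 * m + 1) - 1) / 2) (b : ↥(twistedG2 K (3 ^ m))) (hb : orderOf b = s) :
    ∃ D : Subgroup ↥(twistedG2 K (3 ^ m)), IsCyclic D ∧
      ∀ X : Subgroup ↥(twistedG2 K (3 ^ m)), IsCyclic X → Nat.card X = d → b ∈ X → X ≤ D := by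
  refine ⟨Subgroup.centralizer {b}, ?_, fun X hX _ hbX => cyclic_le_centralizer X hX b hbX⟩
  obtain ⟨g, hg⟩ := split_cent hK b s hs hsd hb
  have := isCyclic_HH1 (K := K) (m := m) hK
  exact isCyclic_of_injective (conjEquiv _ _ g hg).toMonoidHom (conjEquiv _ _ g hg).injective

theorem local_hex (hK : Fintype.card K = 3 ^ (2 * m + 1)) (hm : 1 ≤ m) (d s : ℕ) (hs : s.Prime)
    (hsd : s ∣ 3 ^ (2 * m + 1) * (3 ^ (2 * m + 1) - 1) + 1)
    (b : ↥(twistedG2 K (3 ^ m))) (hb : orderOf b = s) :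
    ∃ D : Subgroup ↥(twistedG2 K (3 ^ m)), IsCyclic D ∧
      ∀ X : Subgroup ↥(twistedG2 K (3 ^ m)), IsCyclic X → Nat.card X = d → b ∈ X → X ≤ D :=
  ⟨Subgroup.centralizer {b}, hex_cent_cyclic hK hm b s hs hsd hb,
    fun X hX _ hbX => cyclic_le_centralizer X hX b hbX⟩

theorem local_quarter (hK : Fintype.card K = 3 ^ (2 * m + 1)) (hm : 1 ≤ m) (d s : ℕ)
    (hs : s.Prime) (hdq : d ∣ (3 ^ (2 * m + 1) + 1) / 4) (hsd : s ∣ d)
    (b : ↥(twistedG2 K (3 ^ m))) (hb : orderOf b = s) :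
    ∃ D : Subgroup ↥(twistedG2 K (3 ^ m)), IsCyclic D ∧
      ∀ X : Subgroup ↥(twistedG2 K (3 ^ m)), IsCyclic X → Nat.card X = d → b ∈ X → X ≤ D := by
  have hsq4 : s ∣ (3 ^ (2 * m + 1) + 1) / 4 := dvd_trans hsd hdq
  have hs3 := prime_gt_three_of_dvd_quarter hs hsq4
  obtain ⟨hcomm, hcard, hexp⟩ := quarter_cent hK hm b s hs hsq4 hb
  have h8 := q_mod8 m
  set n := (3 ^ (2 * m + 1) + 1) / 4 with hn
  have hnodd : n % 2 = 1 := by omega
  let D : Subgroup ↥(twistedG2 K (3 ^ m)) :=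
    { carrier := {x | x ∈ Subgroup.centralizer ({b} : Set ↥(twistedG2 K (3 ^ m))) ∧ x ^ n = 1}
      one_mem' := ⟨Subgroup.one_mem _, one_pow _⟩
      mul_mem' := by
        rintro x y ⟨hx, hxn⟩ ⟨hy, hyn⟩
        refine ⟨Subgroup.mul_mem _ hx hy, ?_⟩
        rw [(Commute.mul_pow (hcomm x hx y hy) n), hxn, hyn, one_mul]
      inv_mem' := by
        rintro x ⟨hx, hxn⟩
        exact ⟨Subgroup.inv_mem _ hx, by rw [inv_pow, hxn, inv_one]⟩ }
  have hsq1 : s.Coprime (3 ^ (2 * m + 1) - 1) := by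
    rw [Nat.Prime.coprime_iff_not_dvd hs]
    intro h1
    have h2 : s ∣ 3 ^ (2 * m + 1) + 1 := dvd_trans hsq4 (Nat.div_dvd_of_dvd (by omega))
    have hq1 : 1 ≤ 3 ^ (2 * m + 1) := Nat.one_le_pow _ _ (by norm_num)
    have h3 : s ∣ (3 ^ (2 * m + 1) + 1) - (3 ^ (2 * m + 1) - 1) := Nat.dvd_sub h2 h1
    have h4 : (3 ^ (2 * m + 1) + 1) - (3 ^ (2 * m + 1) - 1) = 2 := by omega
    rw [h4] at h3
    have := Nat.le_of_dvd (by norm_num) h3
    omega
  refine ⟨D, ?_, ?_⟩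
  · apply ree_isCyclic_of_comm hK hm
    · rintro x ⟨hx, -⟩ y ⟨hy, -⟩
      exact hcomm x hx y hy
    · rintro x ⟨hx, hxn⟩ hxx
      have h1 : orderOf x ∣ n := orderOf_dvd_of_pow_eq_one hxn
      have h2 : orderOf x ∣ 2 := orderOf_dvd_of_pow_eq_one (by rw [sq]; exact hxx)
      have h3 : orderOf x ∣ Nat.gcd n 2 := Nat.dvd_gcd h1 h2
      have h4 : Nat.gcd n 2 = 1 := by
        rw [Nat.gcd_comm, Nat.gcd_rec]
        rw [hnodd]
        rfl
      rw [h4, Nat.dvd_one, orderOf_eq_one_iff] at h3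
      exact h3
    · rintro x ⟨hx, -⟩ hx3
      rw [Subgroup.mem_centralizer_singleton_iff] at hx
      exact no_three hK b x s hs hs3 hsq1 hb hx3 hx
  · intro X hX hXd hbX x hx
    refine ⟨cyclic_le_centralizer X hX b hbX hx, ?_⟩
    have h1 : (⟨x, hx⟩ : X) ^ Nat.card X = 1 := pow_card_eq_one'
    have h2 : x ^ d = 1 := by
      rw [hXd] at h1
      exact congrArg Subtype.val h1
    obtain ⟨k, hk⟩ := hdq
    rw [hk, pow_mul, h2, one_pow]


/-- cyclic subgroups of the same toral order are conjugate -/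
theorem cyclic_conj (hK : Fintype.card K = 3 ^ (2 * m + 1)) (hm : 1 ≤ m) (d : ℕ)
    (hd : d ∣ (3 ^ (2 * m + 1) - 1) / 2 ∨ d ∣ (3 ^ (2 * m + 1) + 1) / 4 ∨
      d ∣ 3 ^ (2 * m + 1) - 3 ^ (m + 1) + 1 ∨ d ∣ 3 ^ (2 * m + 1) + 3 ^ (m + 1) + 1)
    (A B : Subgroup ↥(twistedG2 K (3 ^ m))) (hA : IsCyclic A) (hB : IsCyclic B)
    (hAd : Nat.card A = d) (hBd : Nat.card B = d) :
    ∃ g : ↥(twistedG2 K (3 ^ m)), B = A.map (MulAut.conj g).toMonoidHom := by
  have hfin := Cfsg.Agent.ReeL.finite_twisted (K := K) (m := m) hK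
  by_cases hd1 : d = 1
  · subst hd1
    refine ⟨1, ?_⟩
    rw [Subgroup.card_eq_one] at hAd hBd
    rw [hAd, hBd, Subgroup.map_bot]
  have hs : (Nat.minFac d).Prime := Nat.minFac_prime hd1
  have hsd : Nat.minFac d ∣ d := Nat.minFac_dvd d
  set s := Nat.minFac d
  have : Fact s.Prime := ⟨hs⟩
  rcases hd with hd | hd | hd | hd
  · have hs2 : s ∣ (3 ^ (2 * m + 1) - 1) / 2 := dvd_trans hsd hd
    have hs3 := prime_gt_three_of_dvd_half hs hs2
    exact conj_of_cyclic_local d s hsd (fun P => sylow_cyclic hm hK hs3 P)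
      (fun b hb => local_split hK d s hs hs2 b hb) A B hA hB hAd hBd
  · have hs2 : s ∣ (3 ^ (2 * m + 1) + 1) / 4 := dvd_trans hsd hd
    have hs3 := prime_gt_three_of_dvd_quarter hs hs2
    exact conj_of_cyclic_local d s hsd (fun P => sylow_cyclic hm hK hs3 P)
      (fun b hb => local_quarter hK hm d s hs hd hsd b hb) A B hA hB hAd hBd
  · have hs2 : s ∣ 3 ^ (2 * m + 1) * (3 ^ (2 * m + 1) - 1) + 1 := by
      rw [← hex_factor]
      exact dvd_trans (dvd_trans hsd hd) (Dvd.intro _ rfl)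
    obtain ⟨hs3, -⟩ := hex_arith hs hs2
    exact conj_of_cyclic_local d s hsd (fun P => sylow_cyclic hm hK hs3 P)
      (fun b hb => local_hex hK hm d s hs hs2 b hb) A B hA hB hAd hBd
  · have hs2 : s ∣ 3 ^ (2 * m + 1) * (3 ^ (2 * m + 1) - 1) + 1 := by
      rw [← hex_factor]
      exact dvd_trans (dvd_trans hsd hd) (Dvd.intro_left _ rfl)
    obtain ⟨hs3, -⟩ := hex_arith hs hs2
    exact conj_of_cyclic_local d s hsd (fun P => sylow_cyclic hm hK hs3 P)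
      (fun b hb => local_hex hK hm d s hs hs2 b hb) A B hA hB hAd hBd

end

end Cfsg.Agent.ReeHex
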