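import Cfsg.Agent.Lib.Lead.ReeHex.Tori
import Cfsg.Agent.Lib.Helper5.Ree.WardArith
import Mathlib

/-!
# Small Ree groups: exactly two classes of cyclic Hall subgroups `C(x)`, of orders `q ± r + 1` (lead)

Given the number of elements whose order is divisible by a prime divisor of `q² - q + 1`.
-/

set_option autoImplicit false
set_option maxRecDepth 100000

namespace Cfsg.Agent.ReeHex

open Cfsg.Lie Cfsg.Agent.Lib.Helper5.Chev Cfsg.Agent.Lib.Helper5.GA Cfsg.Agent.Lib.Helper5.Tw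
open Cfsg.Agent.Lib.Helper5.Frob Cfsg.Agent.Lib.Helper5.SL2P Cfsg.Agent.Lib.Helper5.Ree
open Cfsg.Agent.ReeL Cfsg.Agent.Lib.Helper8.ReeSyl Cfsg.Agent.ReeTor
open Cfsg.Agent.Lib.Helper5.Ree.WardArith

section

variable {K : Type*} [Field K] [Fintype K] [CharP K 3] {m : ℕ}

/-- data of one torus -/
theorem torus_data (hK : Fintype.card K = 3 ^ (2 * m + 1)) (hm : 1 ≤ m)
    (p : ℕ) (hp : p.Prime) (hpN : p ∣ 3 ^ (2 * m + 1) * (3 ^ (2 * m + 1) - 1) + 1) :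
    ∃ x : ↥(twistedG2 K (3 ^ m)), orderOf x = p ∧ ∃ w : ℕ, w ∣ 6 ∧
      Nat.card (Subgroup.normalizer (Subgroup.centralizer ({x} : Set ↥(twistedG2 K (3 ^ m)))
        : Set ↥(twistedG2 K (3 ^ m))))
        = w * Nat.card (Subgroup.centralizer ({x} : Set ↥(twistedG2 K (3 ^ m)))) ∧
      (UU x).ncard * (w * Nat.card (Subgroup.centralizer ({x} : Set ↥(twistedG2 K (3 ^ m)))))
        = (3 ^ (2 * m + 1)) ^ 3 * (3 ^ (2 * m + 1) - 1) * ((3 ^ (2 * m + 1)) ^ 3 + 1)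
          * (Nat.card (Subgroup.centralizer ({x} : Set ↥(twistedG2 K (3 ^ m)))) - 1) := by
  have hfin := Cfsg.Agent.ReeL.finite_twisted (K := K) (m := m) hK
  have : Fact p.Prime := ⟨hp⟩
  have hq1 : 1 ≤ 3 ^ (2 * m + 1) := Nat.one_le_pow _ _ (by norm_num)
  have hpG : p ∣ Nat.card ↥(twistedG2 K (3 ^ m)) := by
    rw [card_twisted hK, cube_succ _ hq1]
    exact dvd_trans hpN ⟨(3 ^ (2 * m + 1)) ^ 3 * (3 ^ (2 * m + 1) - 1) * (3 ^ (2 * m + 1) + 1), by ring⟩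
  obtain ⟨x, hx⟩ := exists_prime_orderOf_dvd_card' p hpG
  refine ⟨x, hx, ?_⟩
  obtain ⟨w, hw6, hw⟩ := hex_card_normalizer hK hm x p hp hpN hx
  refine ⟨w, hw6, hw, ?_⟩
  have h := hex_card_union hK hm x p hp hpN hx
  rw [hw, card_twisted hK] at h
  rw [← Nat.card_coe_set_eq]
  exact h

/-- the conclusion of the class count -/
def HexConclusion (K : Type*) [Field K] (m : ℕ) : Prop :=
  ∃ x₁ x₂ : ↥(twistedG2 K (3 ^ m)), ∃ s₁ s₂ : ℕ, s₁.Prime ∧ s₂.Prime ∧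
    s₁ ∣ 3 ^ (2 * m + 1) * (3 ^ (2 * m + 1) - 1) + 1 ∧
    s₂ ∣ 3 ^ (2 * m + 1) * (3 ^ (2 * m + 1) - 1) + 1 ∧
    orderOf x₁ = s₁ ∧ orderOf x₂ = s₂ ∧
    Nat.card (Subgroup.centralizer ({x₁} : Set ↥(twistedG2 K (3 ^ m))))
      = 3 ^ (2 * m + 1) - 3 ^ (m + 1) + 1 ∧
    Nat.card (Subgroup.centralizer ({x₂} : Set ↥(twistedG2 K (3 ^ m))))
      = 3 ^ (2 * m + 1) + 3 ^ (m + 1) + 1 ∧
    Nat.card (Subgroup.normalizer (Subgroup.centralizer ({x₁} : Set ↥(twistedG2 K (3 ^ m)))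
      : Set ↥(twistedG2 K (3 ^ m)))) = 6 * (3 ^ (2 * m + 1) - 3 ^ (m + 1) + 1) ∧
    Nat.card (Subgroup.normalizer (Subgroup.centralizer ({x₂} : Set ↥(twistedG2 K (3 ^ m)))
      : Set ↥(twistedG2 K (3 ^ m)))) = 6 * (3 ^ (2 * m + 1) + 3 ^ (m + 1) + 1) ∧
    Xpi K m = UU x₁ ∪ UU x₂

theorem hex_endgame (hK : Fintype.card K = 3 ^ (2 * m + 1)) (hm : 1 ≤ m) (T : ℕ)
    (hTc : (Xpi K m).ncard = T)
    (hT : 3 * (3 ^ (2 * m + 1) * (3 ^ (2 * m + 1) - 1) + 1) * T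
      = (3 ^ (2 * m + 1)) ^ 3 * (3 ^ (2 * m + 1) - 1) * ((3 ^ (2 * m + 1)) ^ 3 + 1)
        * (3 ^ (2 * m + 1) * (3 ^ (2 * m + 1) - 2))) :
    HexConclusion K m := by
  have hfin := Cfsg.Agent.ReeL.finite_twisted (K := K) (m := m) hK
  have hq1 : 1 ≤ 3 ^ (2 * m + 1) := Nat.one_le_pow _ _ (by norm_num)
  have hq3 : 3 ≤ 3 ^ (2 * m + 1) := by
    calc 3 = 3 ^ 1 := by norm_num
      _ ≤ 3 ^ (2 * m + 1) := Nat.pow_le_pow_right (by norm_num) (by omega)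
  set N := 3 ^ (2 * m + 1) * (3 ^ (2 * m + 1) - 1) + 1 with hN
  have hN2 : N ≠ 1 := by
    rw [hN]
    have : 0 < 3 ^ (2 * m + 1) * (3 ^ (2 * m + 1) - 1) := Nat.mul_pos (by omega) (by omega)
    omega
  have hN0 : N ≠ 0 := by rw [hN]; omega
  -- first torus
  have hp₁ : (Nat.minFac N).Prime := Nat.minFac_prime hN2
  have hp₁N : Nat.minFac N ∣ N := Nat.minFac_dvd N
  obtain ⟨x₁, hx₁, w₁, hw₁, hn₁, hu₁⟩ := torus_data hK hm _ hp₁ hp₁N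
  set m₁ := Nat.card (Subgroup.centralizer ({x₁} : Set ↥(twistedG2 K (3 ^ m)))) with hm₁
  have hd₁ : m₁ ∣ N := (hex_card_dvd hK hm x₁ _ hp₁ hp₁N hx₁).1
  have hc₁ : ∀ p : ℕ, p.Prime → p ∣ m₁ → ¬ p ∣ N / m₁ := (hex_card_dvd hK hm x₁ _ hp₁ hp₁N hx₁).2
  have h5₁ : 5 ≤ m₁ := (five_le_card hK x₁ _ hp₁ hp₁N hx₁).1
  have hs₁ : Nat.minFac N ∣ m₁ := (five_le_card hK x₁ _ hp₁ hp₁N hx₁).2
  have hsub₁ := UU_subset_Xpi hK hm x₁ _ hp₁ hp₁N hx₁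
  have hXfin : (Xpi K m).Finite := Set.toFinite _
  by_cases hone : m₁ = N
  · exfalso
    have hXsub : Xpi K m ⊆ UU x₁ := by
      rintro y ⟨s, hs, hsN, hsy⟩
      have hsm : s ∣ m₁ := by rw [hone]; exact hsN
      exact mem_UU_of_prime_dvd hK hm x₁ _ hp₁ hp₁N hx₁ s hs hsm y hsy
    have heq : UU x₁ = Xpi K m := Set.Subset.antisymm hsub₁ hXsub
    rw [heq, hTc, hone] at hu₁
    exact one_class_false hm hT hw₁ hu₁
  -- second torus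
  obtain ⟨c₁, hc₁'⟩ := hd₁
  have hm₁0 : 0 < m₁ := by omega
  have hdiv₁ : N / m₁ = c₁ := by rw [hc₁', Nat.mul_div_cancel_left _ hm₁0]
  have hc₁1 : c₁ ≠ 1 := by
    rintro rfl
    rw [mul_one] at hc₁'
    exact hone hc₁'.symm
  have hp₂ : (Nat.minFac c₁).Prime := Nat.minFac_prime hc₁1
  have hp₂c : Nat.minFac c₁ ∣ c₁ := Nat.minFac_dvd c₁
  have hp₂N : Nat.minFac c₁ ∣ N := dvd_trans hp₂c ⟨m₁, by rw [hc₁', mul_comm]⟩
  obtain ⟨x₂, hx₂, w₂, hw₂, hn₂, hu₂⟩ := torus_data hK hm _ hp₂ hp₂N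
  set m₂ := Nat.card (Subgroup.centralizer ({x₂} : Set ↥(twistedG2 K (3 ^ m)))) with hm₂
  have hd₂ : m₂ ∣ N := (hex_card_dvd hK hm x₂ _ hp₂ hp₂N hx₂).1
  have hc₂ : ∀ p : ℕ, p.Prime → p ∣ m₂ → ¬ p ∣ N / m₂ := (hex_card_dvd hK hm x₂ _ hp₂ hp₂N hx₂).2
  have h5₂ : 5 ≤ m₂ := (five_le_card hK x₂ _ hp₂ hp₂N hx₂).1
  have hs₂ : Nat.minFac c₁ ∣ m₂ := (five_le_card hK x₂ _ hp₂ hp₂N hx₂).2
  have hsub₂ := UU_subset_Xpi hK hm x₂ _ hp₂ hp₂N hx₂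
  have hcop₁₂ : m₁.Coprime m₂ := by
    rw [Nat.coprime_iff_gcd_eq_one.symm.symm]
    by_contra hg
    obtain ⟨p, hp, hpg⟩ := Nat.exists_prime_and_dvd hg
    have hpd₁ : p ∣ m₁ := dvd_trans hpg (Nat.gcd_dvd_left _ _)
    have hpd₂ : p ∣ m₂ := dvd_trans hpg (Nat.gcd_dvd_right _ _)
    have := card_eq_of_common_prime hK hm x₁ _ hp₁ hp₁N hx₁ x₂ _ hp₂ hp₂N hx₂ p hp hpd₁ hpd₂
    have h' : Nat.minFac c₁ ∣ m₁ := by
      have e : m₂ = m₁ := this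
      rw [← e]; exact hs₂
    exact hc₁ _ hp₂ h' (hdiv₁ ▸ hp₂c)
  have hmul₁₂ : m₁ * m₂ ∣ N := Nat.Coprime.mul_dvd_of_dvd_of_dvd hcop₁₂ ⟨c₁, hc₁'⟩ hd₂
  have hdisj₁₂ := UU_disjoint hK x₁ x₂ hcop₁₂
  have hsum₁₂ : (UU x₁).ncard + (UU x₂).ncard ≤ T := by
    rw [← Set.ncard_union_eq hdisj₁₂ (Set.toFinite _) (Set.toFinite _), ← hTc]
    exact Set.ncard_le_ncard (Set.union_subset hsub₁ hsub₂) hXfin
  by_cases htwo : m₁ * m₂ = N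
  · -- two classes
    have hXeq : Xpi K m = UU x₁ ∪ UU x₂ := by
      apply Set.Subset.antisymm
      · rintro y ⟨s, hs, hsN, hsy⟩
        have hsN' : s ∣ m₁ * m₂ := by rw [htwo]; exact hsN
        rcases hs.dvd_mul.1 hsN' with h | h
        · exact Or.inl (mem_UU_of_prime_dvd hK hm x₁ _ hp₁ hp₁N hx₁ s hs h y hsy)
        · exact Or.inr (mem_UU_of_prime_dvd hK hm x₂ _ hp₂ hp₂N hx₂ s hs h y hsy)
      · exact Set.union_subset hsub₁ hsub₂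
    have hsumeq : (UU x₁).ncard + (UU x₂).ncard = T := by
      rw [← Set.ncard_union_eq hdisj₁₂ (Set.toFinite _) (Set.toFinite _), ← hXeq, hTc]
    obtain ⟨e₁, e₂, hcases⟩ := two_classes hm hT htwo h5₁ h5₂ hw₁ hw₂ hu₁ hu₂ hsumeq
    rcases hcases with ⟨hm₁', hm₂'⟩ | ⟨hm₁', hm₂'⟩
    · refine ⟨x₁, x₂, _, _, hp₁, hp₂, hp₁N, hp₂N, hx₁, hx₂, hm₁', hm₂', ?_, ?_, hXeq⟩
      · rw [hn₁, e₁, hm₁']
      · rw [hn₂, e₂, hm₂']
    · refine ⟨x₂, x₁, _, _, hp₂, hp₁, hp₂N, hp₁N, hx₂, hx₁, hm₂', hm₁', ?_, ?_, ?_⟩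
      · rw [hn₂, e₂, hm₂']
      · rw [hn₁, e₁, hm₁']
      · rw [hXeq, Set.union_comm]
  · -- a third class: impossible
    exfalso
    obtain ⟨c₂, hc₂'⟩ := hmul₁₂
    have hmm0 : 0 < m₁ * m₂ := Nat.mul_pos hm₁0 (by omega)
    have hc₂1 : c₂ ≠ 1 := by
      rintro rfl
      rw [mul_one] at hc₂'
      exact htwo hc₂'.symm
    have hp₃ : (Nat.minFac c₂).Prime := Nat.minFac_prime hc₂1
    have hp₃c : Nat.minFac c₂ ∣ c₂ := Nat.minFac_dvd c₂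
    have hp₃N : Nat.minFac c₂ ∣ N := dvd_trans hp₃c ⟨m₁ * m₂, by rw [hc₂', mul_comm]⟩
    obtain ⟨x₃, hx₃, w₃, hw₃, hn₃, hu₃⟩ := torus_data hK hm _ hp₃ hp₃N
    set m₃ := Nat.card (Subgroup.centralizer ({x₃} : Set ↥(twistedG2 K (3 ^ m)))) with hm₃
    have h5₃ : 5 ≤ m₃ := (five_le_card hK x₃ _ hp₃ hp₃N hx₃).1
    have hs₃ : Nat.minFac c₂ ∣ m₃ := (five_le_card hK x₃ _ hp₃ hp₃N hx₃).2
    have hsub₃ := UU_subset_Xpi hK hm x₃ _ hp₃ hp₃N hx₃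
    -- `p₃` does not divide `m₁`, `m₂`
    have hdivN₁ : N / m₁ = m₂ * c₂ := by
      rw [hc₂', mul_assoc, Nat.mul_div_cancel_left _ hm₁0]
    have hm₂0 : 0 < m₂ := by omega
    have hdivN₂ : N / m₂ = m₁ * c₂ := by
      rw [hc₂', mul_comm m₁ m₂, mul_assoc, Nat.mul_div_cancel_left _ hm₂0]
    have hn31 : ¬ Nat.minFac c₂ ∣ m₁ := fun h =>
      hc₁ _ hp₃ h (by rw [hdivN₁]; exact dvd_trans hp₃c (Dvd.intro_left _ rfl))
    have hn32 : ¬ Nat.minFac c₂ ∣ m₂ := fun h =>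
      hc₂ _ hp₃ h (by rw [hdivN₂]; exact dvd_trans hp₃c (Dvd.intro_left _ rfl))
    have hcop₁₃ : m₁.Coprime m₃ := by
      by_contra hg
      obtain ⟨p, hp, hpg⟩ := Nat.exists_prime_and_dvd hg
      have hpd₁ : p ∣ m₁ := dvd_trans hpg (Nat.gcd_dvd_left _ _)
      have hpd₃ : p ∣ m₃ := dvd_trans hpg (Nat.gcd_dvd_right _ _)
      have := card_eq_of_common_prime hK hm x₁ _ hp₁ hp₁N hx₁ x₃ _ hp₃ hp₃N hx₃ p hp hpd₁ hpd₃
      have e : m₃ = m₁ := this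
      exact hn31 (by rw [← e]; exact hs₃)
    have hcop₂₃ : m₂.Coprime m₃ := by
      by_contra hg
      obtain ⟨p, hp, hpg⟩ := Nat.exists_prime_and_dvd hg
      have hpd₂ : p ∣ m₂ := dvd_trans hpg (Nat.gcd_dvd_left _ _)
      have hpd₃ : p ∣ m₃ := dvd_trans hpg (Nat.gcd_dvd_right _ _)
      have := card_eq_of_common_prime hK hm x₂ _ hp₂ hp₂N hx₂ x₃ _ hp₃ hp₃N hx₃ p hp hpd₂ hpd₃
      have e : m₃ = m₂ := this
      exact hn32 (by rw [← e]; exact hs₃)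
    have hdisj₁₃ := UU_disjoint hK x₁ x₃ hcop₁₃
    have hdisj₂₃ := UU_disjoint hK x₂ x₃ hcop₂₃
    have hsum3 : (UU x₁).ncard + (UU x₂).ncard + (UU x₃).ncard ≤ T := by
      have hd : Disjoint (UU x₁ ∪ UU x₂) (UU x₃) := Set.disjoint_union_left.2 ⟨hdisj₁₃, hdisj₂₃⟩
      rw [← Set.ncard_union_eq hdisj₁₂ (Set.toFinite _) (Set.toFinite _),
        ← Set.ncard_union_eq hd (Set.toFinite _) (Set.toFinite _), ← hTc]
      exact Set.ncard_le_ncard (Set.union_subset (Set.union_subset hsub₁ hsub₂) hsub₃) hXfin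
    exact three_classes_false hm hT
      (class_lower h5₁ hw₁ hu₁) (class_lower h5₂ hw₂ hu₂) (class_lower h5₃ hw₃ hu₃) hsum3

end

end Cfsg.Agent.ReeHex
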