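import Cfsg.Agent.Lib.Lead.ReeHex.Types
import Cfsg.Agent.Lib.Helper5.Ree.WardCount
import Mathlib

/-!
# Small Ree groups: consequences of the two-class theorem for the tori of order `q ± r + 1` (lead)
-/

set_option autoImplicit false
set_option maxRecDepth 100000

namespace Cfsg.Agent.ReeHex

open Cfsg.Lie Cfsg.Agent.Lib.Helper5.Chev Cfsg.Agent.Lib.Helper5.GA Cfsg.Agent.Lib.Helper5.Tw
open Cfsg.Agent.Lib.Helper5.Frob Cfsg.Agent.Lib.Helper5.SL2P Cfsg.Agent.Lib.Helper5.Ree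
open Cfsg.Agent.ReeL Cfsg.Agent.Lib.Helper8.ReeSyl Cfsg.Agent.ReeTor
open Cfsg.Agent.Lib.Helper5.SameOrdPA Cfsg.Agent.Lib.Helper5.Ree.WardCount

section

variable {K : Type*} [Field K] [Fintype K] [CharP K 3] {m : ℕ}

/-- the number of elements of order `i` for `1 < i ∣ |C(x)|` -/
theorem card_order_torus (hK : Fintype.card K = 3 ^ (2 * m + 1)) (hm : 1 ≤ m)
    (x : ↥(twistedG2 K (3 ^ m))) (s : ℕ) (hs : s.Prime)
    (hsd : s ∣ 3 ^ (2 * m + 1) * (3 ^ (2 * m + 1) - 1) + 1) (hx : orderOf x = s)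
    (i : ℕ) (hi1 : 1 < i)
    (hi : i ∣ Nat.card (Subgroup.centralizer ({x} : Set ↥(twistedG2 K (3 ^ m))))) :
    Nat.card {g : ↥(twistedG2 K (3 ^ m)) // orderOf g = i}
      * Nat.card (Subgroup.normalizer
        (Subgroup.centralizer ({x} : Set ↥(twistedG2 K (3 ^ m))) : Set ↥(twistedG2 K (3 ^ m))))
      = Nat.totient i * Nat.card ↥(twistedG2 K (3 ^ m)) := by
  have hfin := Cfsg.Agent.ReeL.finite_twisted (K := K) (m := m) hK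
  have hcyc := hex_cent_cyclic hK hm x s hs hsd hx
  apply card_mul_normalizer
  · intro y hy
    have hp : (Nat.minFac i).Prime := Nat.minFac_prime (by omega)
    have hpi : Nat.minFac i ∣ i := Nat.minFac_dvd i
    obtain ⟨g, z, ⟨hz, -⟩, hyz⟩ := mem_UU_of_prime_dvd hK hm x s hs hsd hx _ hp
      (dvd_trans hpi hi) y (hy ▸ hpi)
    refine ⟨g, ?_⟩
    rw [hyz]
    have : g⁻¹ * (g * z * g⁻¹) * g = z := by group
    rw [this]
    exact hz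
  · intro y g hy hyM hgy
    have hy1 : y ≠ 1 := by
      rintro rfl
      rw [orderOf_one] at hy
      omega
    have h1 := hex_strongly_closed hK hm x s hs hsd hx g⁻¹ y hyM hy1 (by rwa [inv_inv])
    have := Subgroup.inv_mem _ h1
    rwa [inv_inv] at this
  · exact card_order_cyclic _ hcyc i hi

/-- `N(A₀) = N(C(x))` for every nontrivial `A₀ ≤ C(x)` -/
theorem torus_normalizer_eq (hK : Fintype.card K = 3 ^ (2 * m + 1)) (hm : 1 ≤ m)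
    (x : ↥(twistedG2 K (3 ^ m))) (s : ℕ) (hs : s.Prime)
    (hsd : s ∣ 3 ^ (2 * m + 1) * (3 ^ (2 * m + 1) - 1) + 1) (hx : orderOf x = s)
    (A₀ : Subgroup ↥(twistedG2 K (3 ^ m)))
    (hle : A₀ ≤ Subgroup.centralizer ({x} : Set ↥(twistedG2 K (3 ^ m)))) (hne : A₀ ≠ ⊥) :
    Subgroup.normalizer (A₀ : Set ↥(twistedG2 K (3 ^ m)))
      = Subgroup.normalizer
        (Subgroup.centralizer ({x} : Set ↥(twistedG2 K (3 ^ m))) : Set ↥(twistedG2 K (3 ^ m))) := by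
  have hfin := Cfsg.Agent.ReeL.finite_twisted (K := K) (m := m) hK
  have hcyc := hex_cent_cyclic hK hm x s hs hsd hx
  obtain ⟨z, hz, hz1⟩ : ∃ z ∈ A₀, z ≠ 1 := by
    by_contra hcon
    push Not at hcon
    exact hne ((Subgroup.eq_bot_iff_forall _).2 hcon)
  apply le_antisymm
  · intro n hn
    have hnz : n * z * n⁻¹ ∈ A₀ := (Subgroup.mem_normalizer_iff.1 hn z).1 hz
    exact hex_strongly_closed hK hm x s hs hsd hx n z (hle hz) hz1 (hle hnz)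
  · intro n hn
    have hmap : A₀.map (MulAut.conj n).toMonoidHom = A₀ := by
      apply eq_of_card_eq_of_le_cyclic (Subgroup.centralizer ({x} : Set ↥(twistedG2 K (3 ^ m))))
      · rintro _ ⟨y, hy, rfl⟩
        exact (Subgroup.mem_normalizer_iff.1 hn y).1 (hle hy)
      · exact hle
      · exact card_map_conj A₀ n
    apply Subgroup.mem_normalizer_fintype
    intro y hy
    rw [← hmap]
    exact ⟨y, hy, rfl⟩

/-- `|G| = q³ (q² - 1) (q - r + 1) (q + r + 1)` -/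
theorem Gc_factor (m : ℕ) :
    (3 ^ (2 * m + 1)) ^ 3 * (3 ^ (2 * m + 1) - 1) * ((3 ^ (2 * m + 1)) ^ 3 + 1)
      = (3 ^ (2 * m + 1)) ^ 3 * ((3 ^ (2 * m + 1)) ^ 2 - 1)
        * ((3 ^ (2 * m + 1) - 3 ^ (m + 1) + 1) * (3 ^ (2 * m + 1) + 3 ^ (m + 1) + 1)) := by
  have hq1 : 1 ≤ 3 ^ (2 * m + 1) := Nat.one_le_pow _ _ (by norm_num)
  rw [hex_factor, cube_succ _ hq1]
  generalize 3 ^ (2 * m + 1) = q at hq1
  obtain ⟨n, rfl⟩ : ∃ n, q = n + 1 := ⟨q - 1, by omega⟩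
  have e1 : n + 1 - 1 = n := by omega
  have e2 : (n + 1) ^ 2 - 1 = n * (n + 2) := by
    have : (n + 1) ^ 2 = n * (n + 2) + 1 := by ring
    omega
  rw [e1, e2]
  ring

/-- conjunct 7 of S2357 -/
theorem card_order_minus (hK : Fintype.card K = 3 ^ (2 * m + 1)) (hm : 1 ≤ m)
    (H : HexConclusion K m) :
    ∀ i : ℕ, 1 < i → i ∣ 3 ^ (2 * m + 1) - 3 ^ (m + 1) + 1 →
      6 * Nat.card {g : ↥(twistedG2 K (3 ^ m)) // orderOf g = i} =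
        Nat.totient i * (3 ^ (2 * m + 1)) ^ 3 * ((3 ^ (2 * m + 1)) ^ 2 - 1)
          * (3 ^ (2 * m + 1) + 3 ^ (m + 1) + 1) := by
  obtain ⟨x₁, x₂, s₁, s₂, hs₁, hs₂, hd₁, hd₂, hx₁, hx₂, hc₁, hc₂, hn₁, hn₂, -⟩ := H
  intro i hi1 hi
  have h := card_order_torus hK hm x₁ s₁ hs₁ hd₁ hx₁ i hi1 (hc₁ ▸ hi)
  rw [hn₁, card_twisted hK, Gc_factor] at h
  have hpos : 0 < 3 ^ (2 * m + 1) - 3 ^ (m + 1) + 1 := by omega
  apply Nat.eq_of_mul_eq_mul_right hpos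
  calc 6 * Nat.card {g : ↥(twistedG2 K (3 ^ m)) // orderOf g = i}
        * (3 ^ (2 * m + 1) - 3 ^ (m + 1) + 1)
      = Nat.card {g : ↥(twistedG2 K (3 ^ m)) // orderOf g = i}
        * (6 * (3 ^ (2 * m + 1) - 3 ^ (m + 1) + 1)) := by ring
    _ = _ := by rw [h]; ring

/-- conjunct 8 of S2357 -/
theorem card_order_plus (hK : Fintype.card K = 3 ^ (2 * m + 1)) (hm : 1 ≤ m)
    (H : HexConclusion K m) :
    ∀ i : ℕ, 1 < i → i ∣ 3 ^ (2 * m + 1) + 3 ^ (m + 1) + 1 →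
      6 * Nat.card {g : ↥(twistedG2 K (3 ^ m)) // orderOf g = i} =
        Nat.totient i * (3 ^ (2 * m + 1)) ^ 3 * ((3 ^ (2 * m + 1)) ^ 2 - 1)
          * (3 ^ (2 * m + 1) - 3 ^ (m + 1) + 1) := by
  obtain ⟨x₁, x₂, s₁, s₂, hs₁, hs₂, hd₁, hd₂, hx₁, hx₂, hc₁, hc₂, hn₁, hn₂, -⟩ := H
  intro i hi1 hi
  have h := card_order_torus hK hm x₂ s₂ hs₂ hd₂ hx₂ i hi1 (hc₂ ▸ hi)
  rw [hn₂, card_twisted hK, Gc_factor] at h
  have hpos : 0 < 3 ^ (2 * m + 1) + 3 ^ (m + 1) + 1 := by omega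
  apply Nat.eq_of_mul_eq_mul_right hpos
  calc 6 * Nat.card {g : ↥(twistedG2 K (3 ^ m)) // orderOf g = i}
        * (3 ^ (2 * m + 1) + 3 ^ (m + 1) + 1)
      = Nat.card {g : ↥(twistedG2 K (3 ^ m)) // orderOf g = i}
        * (6 * (3 ^ (2 * m + 1) + 3 ^ (m + 1) + 1)) := by ring
    _ = _ := by rw [h]; ring

/-- items 3 and 4 of S1158 -/
theorem ward_hex (hK : Fintype.card K = 3 ^ (2 * m + 1)) (hm : 1 ≤ m)
    (H : HexConclusion K m) :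
    (∃ A : Subgroup ↥(twistedG2 K (3 ^ m)), IsCyclic A ∧
      Nat.card A = 3 ^ (2 * m + 1) - 3 ^ (m + 1) + 1 ∧
      Nat.card (Subgroup.normalizer (A : Set ↥(twistedG2 K (3 ^ m))))
        = 6 * (3 ^ (2 * m + 1) - 3 ^ (m + 1) + 1) ∧
      ∀ A₀ : Subgroup ↥(twistedG2 K (3 ^ m)), A₀ ≤ A → A₀ ≠ ⊥ →
        Subgroup.normalizer (A₀ : Set ↥(twistedG2 K (3 ^ m)))
          = Subgroup.normalizer (A : Set ↥(twistedG2 K (3 ^ m)))) ∧
    (∃ A : Subgroup ↥(twistedG2 K (3 ^ m)), IsCyclic A ∧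
      Nat.card A = 3 ^ (2 * m + 1) + 3 ^ (m + 1) + 1 ∧
      Nat.card (Subgroup.normalizer (A : Set ↥(twistedG2 K (3 ^ m))))
        = 6 * (3 ^ (2 * m + 1) + 3 ^ (m + 1) + 1) ∧
      ∀ A₀ : Subgroup ↥(twistedG2 K (3 ^ m)), A₀ ≤ A → A₀ ≠ ⊥ →
        Subgroup.normalizer (A₀ : Set ↥(twistedG2 K (3 ^ m)))
          = Subgroup.normalizer (A : Set ↥(twistedG2 K (3 ^ m)))) := by
  obtain ⟨x₁, x₂, s₁, s₂, hs₁, hs₂, hd₁, hd₂, hx₁, hx₂, hc₁, hc₂, hn₁, hn₂, -⟩ := H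
  exact ⟨⟨_, hex_cent_cyclic hK hm x₁ s₁ hs₁ hd₁ hx₁, hc₁, hn₁,
      fun A₀ hle hne => torus_normalizer_eq hK hm x₁ s₁ hs₁ hd₁ hx₁ A₀ hle hne⟩,
    ⟨_, hex_cent_cyclic hK hm x₂ s₂ hs₂ hd₂ hx₂, hc₂, hn₂,
      fun A₀ hle hne => torus_normalizer_eq hK hm x₂ s₂ hs₂ hd₂ hx₂ A₀ hle hne⟩⟩

/-- elements of `Xpi` have order dividing `q - r + 1` or `q + r + 1` -/
theorem orderOf_dvd_of_Xpi (hK : Fintype.card K = 3 ^ (2 * m + 1))
    (H : HexConclusion K m) (g : ↥(twistedG2 K (3 ^ m))) (hg : g ∈ Xpi K m) :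
    orderOf g ∣ 3 ^ (2 * m + 1) - 3 ^ (m + 1) + 1 ∨
      orderOf g ∣ 3 ^ (2 * m + 1) + 3 ^ (m + 1) + 1 := by
  have hfin := Cfsg.Agent.ReeL.finite_twisted (K := K) (m := m) hK
  obtain ⟨x₁, x₂, s₁, s₂, hs₁, hs₂, hd₁, hd₂, hx₁, hx₂, hc₁, hc₂, hn₁, hn₂, hX⟩ := H
  rw [hX] at hg
  rcases hg with ⟨h, z, ⟨hz, -⟩, rfl⟩ | ⟨h, z, ⟨hz, -⟩, rfl⟩
  · left
    rw [orderOf_conj', ← hc₁]
    have : orderOf (⟨z, hz⟩ : ↥(Subgroup.centralizer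
        ({x₁} : Set ↥(twistedG2 K (3 ^ m))))) = orderOf z := by
      rw [← Subgroup.orderOf_coe]
    exact this ▸ orderOf_dvd_natCard _
  · right
    rw [orderOf_conj', ← hc₂]
    have : orderOf (⟨z, hz⟩ : ↥(Subgroup.centralizer
        ({x₂} : Set ↥(twistedG2 K (3 ^ m))))) = orderOf z := by
      rw [← Subgroup.orderOf_coe]
    exact this ▸ orderOf_dvd_natCard _

/-- existence of elements of order `d ∣ q ∓ r + 1` -/
theorem exists_order_hex (hK : Fintype.card K = 3 ^ (2 * m + 1)) (hm : 1 ≤ m)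
    (H : HexConclusion K m) (d : ℕ)
    (hd : d ∣ 3 ^ (2 * m + 1) - 3 ^ (m + 1) + 1 ∨ d ∣ 3 ^ (2 * m + 1) + 3 ^ (m + 1) + 1) :
    ∃ g : ↥(twistedG2 K (3 ^ m)), orderOf g = d := by
  have hfin := Cfsg.Agent.ReeL.finite_twisted (K := K) (m := m) hK
  obtain ⟨x₁, x₂, s₁, s₂, hs₁, hs₂, hd₁, hd₂, hx₁, hx₂, hc₁, hc₂, hn₁, hn₂, -⟩ := H
  have key : ∀ (x : ↥(twistedG2 K (3 ^ m))) (s : ℕ), s.Prime →
      s ∣ 3 ^ (2 * m + 1) * (3 ^ (2 * m + 1) - 1) + 1 → orderOf x = s →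
      d ∣ Nat.card (Subgroup.centralizer ({x} : Set ↥(twistedG2 K (3 ^ m)))) →
      ∃ g : ↥(twistedG2 K (3 ^ m)), orderOf g = d := by
    intro x s hs hsd hx hdc
    have hcyc := hex_cent_cyclic hK hm x s hs hsd hx
    obtain ⟨y, hy⟩ := IsCyclic.exists_ofOrder_eq_natCard
      (α := ↥(Subgroup.centralizer ({x} : Set ↥(twistedG2 K (3 ^ m)))))
    obtain ⟨c, hc⟩ := hdc
    refine ⟨((y ^ c : ↥(Subgroup.centralizer ({x} : Set ↥(twistedG2 K (3 ^ m))))) :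
      ↥(twistedG2 K (3 ^ m))), ?_⟩
    rw [Subgroup.orderOf_coe]
    have hc0 : c ≠ 0 := by
      rintro rfl
      rw [mul_zero] at hc
      exact Nat.card_pos.ne' hc
    have hd0 : d ≠ 0 := by
      rintro rfl
      rw [zero_mul] at hc
      exact Nat.card_pos.ne' hc
    rw [orderOf_pow' _ hc0, hy, hc, Nat.gcd_eq_right (Dvd.intro_left _ rfl),
      Nat.mul_div_cancel _ (Nat.pos_of_ne_zero hc0)]
  rcases hd with hd | hd
  · exact key x₁ s₁ hs₁ hd₁ hx₁ (hc₁ ▸ hd)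
  · exact key x₂ s₂ hs₂ hd₂ hx₂ (hc₂ ▸ hd)

end

end Cfsg.Agent.ReeHex
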