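import Cfsg.Agent.Lib.Lead.ReeHex.Hall
import Mathlib

/-!
# Small Ree groups: the classes of the cyclic Hall subgroups `C(x)` (lead)
-/

set_option autoImplicit false
set_option maxRecDepth 100000

namespace Cfsg.Agent.ReeHex

open Cfsg.Lie Cfsg.Agent.Lib.Helper5.Chev Cfsg.Agent.Lib.Helper5.GA Cfsg.Agent.Lib.Helper5.Tw
open Cfsg.Agent.Lib.Helper5.Frob Cfsg.Agent.Lib.Helper5.SL2P Cfsg.Agent.Lib.Helper5.Ree
open Cfsg.Agent.ReeL Cfsg.Agent.Lib.Helper8.ReeSyl Cfsg.Agent.ReeTor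
open Cfsg.Agent.Lib.Helper5.SameOrdPA

section

variable {K : Type*} [Field K] [Fintype K] [CharP K 3] {m : ℕ}

/-- the union of the conjugates of `C(x) ∖ 1` -/
def UU (x : ↥(twistedG2 K (3 ^ m))) : Set ↥(twistedG2 K (3 ^ m)) :=
  {y | ∃ g z, z ∈ {z | z ∈ Subgroup.centralizer ({x} : Set ↥(twistedG2 K (3 ^ m))) ∧ z ≠ 1}
    ∧ y = g * z * g⁻¹}

/-- the elements whose order is divisible by a prime divisor of `q² - q + 1` -/
def Xpi (K : Type*) [Field K] (m : ℕ) : Set ↥(twistedG2 K (3 ^ m)) :=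
  {y | ∃ s : ℕ, s.Prime ∧ s ∣ 3 ^ (2 * m + 1) * (3 ^ (2 * m + 1) - 1) + 1 ∧ s ∣ orderOf y}

theorem orderOf_conj' {G : Type*} [Group G] (g z : G) : orderOf (g * z * g⁻¹) = orderOf z := by
  have := MulEquiv.orderOf_eq (MulAut.conj g) z
  rwa [MulAut.conj_apply] at this

theorem UU_subset_Xpi (hK : Fintype.card K = 3 ^ (2 * m + 1)) (hm : 1 ≤ m)
    (x : ↥(twistedG2 K (3 ^ m))) (s : ℕ) (hs : s.Prime)
    (hsd : s ∣ 3 ^ (2 * m + 1) * (3 ^ (2 * m + 1) - 1) + 1) (hx : orderOf x = s) :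
    UU x ⊆ Xpi K m := by
  have hfin := Cfsg.Agent.ReeL.finite_twisted (K := K) (m := m) hK
  rintro y ⟨g, z, ⟨hz, hz1⟩, rfl⟩
  have hoz : orderOf z ≠ 1 := fun h => hz1 (orderOf_eq_one_iff.1 h)
  refine ⟨(orderOf z).minFac, Nat.minFac_prime hoz, ?_, ?_⟩
  · apply hex_cent_prime hK hm x s hs hsd hx _ (Nat.minFac_prime hoz)
    have h1 : orderOf (⟨z, hz⟩ : ↥(Subgroup.centralizer
        ({x} : Set ↥(twistedG2 K (3 ^ m))))) = orderOf z := by
      rw [← Subgroup.orderOf_coe]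
    exact dvd_trans (Nat.minFac_dvd _) (h1 ▸ orderOf_dvd_natCard _)
  · rw [orderOf_conj']
    exact Nat.minFac_dvd _

theorem UU_disjoint (hK : Fintype.card K = 3 ^ (2 * m + 1))
    (x x' : ↥(twistedG2 K (3 ^ m)))
    (hcop : (Nat.card (Subgroup.centralizer ({x} : Set ↥(twistedG2 K (3 ^ m))))).Coprime
      (Nat.card (Subgroup.centralizer ({x'} : Set ↥(twistedG2 K (3 ^ m)))))) :
    Disjoint (UU x) (UU x') := by
  have hfin := Cfsg.Agent.ReeL.finite_twisted (K := K) (m := m) hK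
  rw [Set.disjoint_left]
  rintro y ⟨g, z, ⟨hz, hz1⟩, rfl⟩ ⟨g', z', ⟨hz', -⟩, h⟩
  apply hz1
  have h1 : orderOf z ∣ Nat.card (Subgroup.centralizer ({x} : Set ↥(twistedG2 K (3 ^ m)))) := by
    have : orderOf (⟨z, hz⟩ : ↥(Subgroup.centralizer
        ({x} : Set ↥(twistedG2 K (3 ^ m))))) = orderOf z := by
      rw [← Subgroup.orderOf_coe]
    exact this ▸ orderOf_dvd_natCard _
  have h2 : orderOf z ∣ Nat.card (Subgroup.centralizer ({x'} : Set ↥(twistedG2 K (3 ^ m)))) := by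
    have : orderOf (⟨z', hz'⟩ : ↥(Subgroup.centralizer
        ({x'} : Set ↥(twistedG2 K (3 ^ m))))) = orderOf z' := by
      rw [← Subgroup.orderOf_coe]
    have e : orderOf z = orderOf z' := by
      rw [← orderOf_conj' g z, h, orderOf_conj']
    rw [e]
    exact this ▸ orderOf_dvd_natCard _
  have h3 := Nat.dvd_gcd h1 h2
  rw [hcop.gcd_eq_one, Nat.dvd_one] at h3
  exact orderOf_eq_one_iff.1 h3

/-- a prime divisor of `q² - q + 1` divides `q - r + 1` or `q + r + 1` -/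
theorem prime_dvd_cases {p : ℕ} (hp : p.Prime)
    (hpN : p ∣ 3 ^ (2 * m + 1) * (3 ^ (2 * m + 1) - 1) + 1) :
    p ∣ 3 ^ (2 * m + 1) - 3 ^ (m + 1) + 1 ∨ p ∣ 3 ^ (2 * m + 1) + 3 ^ (m + 1) + 1 := by
  rw [← hex_factor] at hpN
  exact hp.dvd_mul.1 hpN

/-- an element of prime order `p ∣ |C(x)|` is conjugate into `C(x)` -/
theorem exists_conj_mem (hK : Fintype.card K = 3 ^ (2 * m + 1)) (hm : 1 ≤ m)
    (x : ↥(twistedG2 K (3 ^ m))) (s : ℕ) (hs : s.Prime)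
    (hsd : s ∣ 3 ^ (2 * m + 1) * (3 ^ (2 * m + 1) - 1) + 1) (hx : orderOf x = s)
    (p : ℕ) (hp : p.Prime)
    (hpd : p ∣ Nat.card (Subgroup.centralizer ({x} : Set ↥(twistedG2 K (3 ^ m)))))
    (z' : ↥(twistedG2 K (3 ^ m))) (hz' : orderOf z' = p) :
    ∃ g z₁ : ↥(twistedG2 K (3 ^ m)),
      z₁ ∈ Subgroup.centralizer ({x} : Set ↥(twistedG2 K (3 ^ m))) ∧ z₁ ≠ 1 ∧
        z' = g * z₁ * g⁻¹ := by
  have hfin := Cfsg.Agent.ReeL.finite_twisted (K := K) (m := m) hK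
  have : Fact p.Prime := ⟨hp⟩
  have hpN := hex_cent_prime hK hm x s hs hsd hx p hp hpd
  obtain ⟨z, hz⟩ := exists_prime_orderOf_dvd_card' (G := ↥(Subgroup.centralizer
    ({x} : Set ↥(twistedG2 K (3 ^ m))))) p hpd
  have hzo : orderOf (z : ↥(twistedG2 K (3 ^ m))) = p := by rw [Subgroup.orderOf_coe, hz]
  have hd : p ∣ (3 ^ (2 * m + 1) - 1) / 2 ∨ p ∣ (3 ^ (2 * m + 1) + 1) / 4 ∨
      p ∣ 3 ^ (2 * m + 1) - 3 ^ (m + 1) + 1 ∨ p ∣ 3 ^ (2 * m + 1) + 3 ^ (m + 1) + 1 := by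
    rcases prime_dvd_cases hp hpN with h | h
    · exact Or.inr (Or.inr (Or.inl h))
    · exact Or.inr (Or.inr (Or.inr h))
  obtain ⟨g, hg⟩ := cyclic_conj hK hm p hd (Subgroup.zpowers (z : ↥(twistedG2 K (3 ^ m))))
    (Subgroup.zpowers z') (Subgroup.isCyclic_zpowers _) (Subgroup.isCyclic_zpowers _)
    (by rw [Nat.card_zpowers, hzo]) (by rw [Nat.card_zpowers, hz'])
  have hmem : z' ∈ (Subgroup.zpowers (z : ↥(twistedG2 K (3 ^ m)))).map
      (MulAut.conj g).toMonoidHom := hg ▸ Subgroup.mem_zpowers z'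
  obtain ⟨z₁, hz₁, hz₁'⟩ := hmem
  have hz₁C : z₁ ∈ Subgroup.centralizer ({x} : Set ↥(twistedG2 K (3 ^ m))) := by
    have hle : Subgroup.zpowers (z : ↥(twistedG2 K (3 ^ m)))
        ≤ Subgroup.centralizer ({x} : Set ↥(twistedG2 K (3 ^ m))) := by
      rw [Subgroup.zpowers_le]; exact z.2
    exact hle hz₁
  refine ⟨g, z₁, hz₁C, ?_, ?_⟩
  · rintro rfl
    have : z' = 1 := by rw [← hz₁']; simp
    rw [this, orderOf_one] at hz'
    exact hp.one_lt.ne hz'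
  · rw [← hz₁']
    rfl

/-- elements whose order is divisible by a prime divisor of `|C(x)|` lie in `UU x` -/
theorem mem_UU_of_prime_dvd (hK : Fintype.card K = 3 ^ (2 * m + 1)) (hm : 1 ≤ m)
    (x : ↥(twistedG2 K (3 ^ m))) (s : ℕ) (hs : s.Prime)
    (hsd : s ∣ 3 ^ (2 * m + 1) * (3 ^ (2 * m + 1) - 1) + 1) (hx : orderOf x = s)
    (p : ℕ) (hp : p.Prime)
    (hpd : p ∣ Nat.card (Subgroup.centralizer ({x} : Set ↥(twistedG2 K (3 ^ m)))))
    (y : ↥(twistedG2 K (3 ^ m))) (hpy : p ∣ orderOf y) : y ∈ UU x := by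
  have hfin := Cfsg.Agent.ReeL.finite_twisted (K := K) (m := m) hK
  set z' := y ^ (orderOf y / p) with hz'
  have hz'o : orderOf z' = p := orderOf_pow_orderOf_div (orderOf_pos y).ne' hpy
  obtain ⟨g, z₁, hz₁C, hz₁1, hz₁⟩ := exists_conj_mem hK hm x s hs hsd hx p hp hpd z' hz'o
  have hy1 : y ≠ 1 := by
    rintro rfl
    rw [orderOf_one, Nat.dvd_one] at hpy
    exact hp.one_lt.ne' hpy
  have hyz' : y * z' = z' * y := by
    rw [hz']
    exact ((Commute.refl y).pow_right _).eq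
  have hmem : g⁻¹ * y * g ∈ Subgroup.centralizer ({x} : Set ↥(twistedG2 K (3 ^ m))) := by
    rw [← hex_cent_eq hK hm x s hs hsd hx z₁ hz₁C hz₁1, ← mem_centralizer_conj, ← hz₁,
      Subgroup.mem_centralizer_singleton_iff]
    exact hyz'
  refine ⟨g, g⁻¹ * y * g, ⟨hmem, ?_⟩, by group⟩
  intro h
  apply hy1
  calc y = g * (g⁻¹ * y * g) * g⁻¹ := by group
    _ = 1 := by rw [h]; group

/-- two such centralisers have coprime or equal orders -/
theorem card_eq_of_common_prime (hK : Fintype.card K = 3 ^ (2 * m + 1)) (hm : 1 ≤ m)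
    (x : ↥(twistedG2 K (3 ^ m))) (s : ℕ) (hs : s.Prime)
    (hsd : s ∣ 3 ^ (2 * m + 1) * (3 ^ (2 * m + 1) - 1) + 1) (hx : orderOf x = s)
    (x' : ↥(twistedG2 K (3 ^ m))) (s' : ℕ) (hs' : s'.Prime)
    (hsd' : s' ∣ 3 ^ (2 * m + 1) * (3 ^ (2 * m + 1) - 1) + 1) (hx' : orderOf x' = s')
    (p : ℕ) (hp : p.Prime)
    (hpd : p ∣ Nat.card (Subgroup.centralizer ({x} : Set ↥(twistedG2 K (3 ^ m)))))
    (hpd' : p ∣ Nat.card (Subgroup.centralizer ({x'} : Set ↥(twistedG2 K (3 ^ m))))) :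
    Nat.card (Subgroup.centralizer ({x'} : Set ↥(twistedG2 K (3 ^ m))))
      = Nat.card (Subgroup.centralizer ({x} : Set ↥(twistedG2 K (3 ^ m)))) := by
  have hfin := Cfsg.Agent.ReeL.finite_twisted (K := K) (m := m) hK
  have : Fact p.Prime := ⟨hp⟩
  obtain ⟨z', hz'⟩ := exists_prime_orderOf_dvd_card' (G := ↥(Subgroup.centralizer
    ({x'} : Set ↥(twistedG2 K (3 ^ m))))) p hpd'
  have hz'o : orderOf (z' : ↥(twistedG2 K (3 ^ m))) = p := by rw [Subgroup.orderOf_coe, hz']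
  have hz'1 : (z' : ↥(twistedG2 K (3 ^ m))) ≠ 1 := by
    intro h
    rw [h, orderOf_one] at hz'o
    exact hp.one_lt.ne hz'o
  obtain ⟨g, z₁, hz₁C, hz₁1, hz₁⟩ := exists_conj_mem hK hm x s hs hsd hx p hp hpd _ hz'o
  have e1 := hex_cent_eq hK hm x' s' hs' hsd' hx' z' z'.2 hz'1
  have e2 := hex_cent_eq hK hm x s hs hsd hx z₁ hz₁C hz₁1
  have hiff : ∀ y, y ∈ Subgroup.centralizer ({x'} : Set ↥(twistedG2 K (3 ^ m)))
      ↔ g⁻¹ * y * g ∈ Subgroup.centralizer ({x} : Set ↥(twistedG2 K (3 ^ m))) := by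
    intro y
    rw [← e1, ← e2, hz₁, mem_centralizer_conj]
  exact Nat.card_congr (conjEquiv _ _ g hiff).toEquiv

/-- `5 ≤ |C(x)|` -/
theorem five_le_card (hK : Fintype.card K = 3 ^ (2 * m + 1))
    (x : ↥(twistedG2 K (3 ^ m))) (s : ℕ) (hs : s.Prime)
    (hsd : s ∣ 3 ^ (2 * m + 1) * (3 ^ (2 * m + 1) - 1) + 1) (hx : orderOf x = s) :
    5 ≤ Nat.card (Subgroup.centralizer ({x} : Set ↥(twistedG2 K (3 ^ m)))) ∧
      s ∣ Nat.card (Subgroup.centralizer ({x} : Set ↥(twistedG2 K (3 ^ m)))) := by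
  have hfin := Cfsg.Agent.ReeL.finite_twisted (K := K) (m := m) hK
  obtain ⟨hs3, -, -, -⟩ := hex_arith hs hsd
  have hxC : x ∈ Subgroup.centralizer ({x} : Set ↥(twistedG2 K (3 ^ m))) :=
    Subgroup.mem_centralizer_singleton_iff.2 rfl
  have h1 : orderOf (⟨x, hxC⟩ : ↥(Subgroup.centralizer
      ({x} : Set ↥(twistedG2 K (3 ^ m))))) = s := by
    rw [← Subgroup.orderOf_coe]; exact hx
  have h2 : s ∣ Nat.card (Subgroup.centralizer ({x} : Set ↥(twistedG2 K (3 ^ m)))) :=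
    h1 ▸ orderOf_dvd_natCard _
  refine ⟨?_, h2⟩
  have := Nat.le_of_dvd Nat.card_pos h2
  have hs5 : 5 ≤ s := by
    by_contra h
    have h4 : s = 4 := by omega
    rw [h4] at hs
    exact absurd hs (by decide)
  omega

end

end Cfsg.Agent.ReeHex
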