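import Cfsg.Agent.Lib.Lead.ReeHex.Endgame
import Cfsg.Agent.Lib.Helper5.Ree.WardC3
import Cfsg.Agent.Lib.Helper5.Ree.WardT2
import Mathlib

/-!
# Small Ree groups: the six types of non-identity elements and the count of the last type (lead)
-/

set_option autoImplicit false
set_option maxRecDepth 100000
set_option linter.unusedSectionVars false

namespace Cfsg.Agent.ReeHex

open Cfsg.Lie Cfsg.Agent.Lib.Helper5.Chev Cfsg.Agent.Lib.Helper5.GA Cfsg.Agent.Lib.Helper5.Tw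
open Cfsg.Agent.Lib.Helper5.Frob Cfsg.Agent.Lib.Helper5.SL2P Cfsg.Agent.Lib.Helper5.Ree
open Cfsg.Agent.ReeL Cfsg.Agent.Lib.Helper8.ReeSyl Cfsg.Agent.ReeTor

section general

variable {α : Type*} [Group α]

/-- the order-theoretic types -/
def P1 (n : ℕ) : Prop := n = 1
def P3 (n : ℕ) : Prop := n ≠ 1 ∧ ∃ k : ℕ, n = 3 ^ k
def P2 (n : ℕ) : Prop := n = 2
def P6 (n : ℕ) : Prop := n = 6
def PBig (n : ℕ) : Prop := ∃ s : ℕ, s.Prime ∧ 3 < s ∧ s ∣ n

theorem not_P1_P3 (n : ℕ) : P1 n → P3 n → False := fun h1 h3 => h3.1 h1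
theorem not_P1_P2 (n : ℕ) : P1 n → P2 n → False := fun h1 h2 => by
  unfold P1 at h1; unfold P2 at h2; omega
theorem not_P1_P6 (n : ℕ) : P1 n → P6 n → False := fun h1 h2 => by
  unfold P1 at h1; unfold P6 at h2; omega
theorem not_P1_PBig (n : ℕ) : P1 n → PBig n → False := by
  rintro h1 ⟨s, hs, hs3, hsn⟩
  unfold P1 at h1
  rw [h1, Nat.dvd_one] at hsn
  omega
theorem not_P3_P2 (n : ℕ) : P3 n → P2 n → False := by
  rintro ⟨h1, k, hk⟩ h2
  unfold P2 at h2
  rw [h2] at hk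
  cases k with
  | zero => simp at hk
  | succ k =>
    have : 3 ∣ 2 := by rw [hk, pow_succ]; exact Dvd.intro_left _ rfl
    omega
theorem not_P3_P6 (n : ℕ) : P3 n → P6 n → False := by
  rintro ⟨h1, k, hk⟩ h2
  unfold P6 at h2
  rw [h2] at hk
  have h2' : 2 ∣ 3 ^ k := by rw [← hk]; norm_num
  have := (Nat.Prime.dvd_of_dvd_pow Nat.prime_two h2')
  omega
theorem not_P3_PBig (n : ℕ) : P3 n → PBig n → False := by
  rintro ⟨h1, k, hk⟩ ⟨s, hs, hs3, hsn⟩
  rw [hk] at hsn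
  have := Nat.le_of_dvd (by norm_num) (hs.dvd_of_dvd_pow hsn)
  omega
theorem not_P2_P6 (n : ℕ) : P2 n → P6 n → False := fun h1 h2 => by
  unfold P2 at h1; unfold P6 at h2; omega
theorem not_P2_PBig (n : ℕ) : P2 n → PBig n → False := by
  rintro h2 ⟨s, hs, hs3, hsn⟩
  unfold P2 at h2
  rw [h2] at hsn
  have := Nat.le_of_dvd (by norm_num) hsn
  omega
theorem not_P6_PBig (n : ℕ) : P6 n → PBig n → False := by
  rintro h2 ⟨s, hs, hs3, hsn⟩
  unfold P6 at h2
  rw [h2] at hsn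
  have h6 := Nat.le_of_dvd (by norm_num) hsn
  interval_cases s
  · exact absurd hs (by decide)
  · norm_num at hsn
  · exact absurd hs (by decide)

theorem disjoint_of_order (P Q : ℕ → Prop) (h : ∀ n, P n → Q n → False) :
    Disjoint {g : α | P (orderOf g)} {g : α | Q (orderOf g)} := by
  rw [Set.disjoint_left]
  intro g hP hQ
  exact h _ hP hQ

end general

theorem ncard_seven {α : Type*} [Finite α] (A B C D E F H : Set α)
    (hAB : Disjoint A B) (hAC : Disjoint A C) (hAD : Disjoint A D) (hAE : Disjoint A E)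
    (hAF : Disjoint A F) (hAH : Disjoint A H) (hBC : Disjoint B C) (hBD : Disjoint B D)
    (hBE : Disjoint B E) (hBF : Disjoint B F) (hBH : Disjoint B H) (hCD : Disjoint C D)
    (hCE : Disjoint C E) (hCF : Disjoint C F) (hCH : Disjoint C H) (hDE : Disjoint D E)
    (hDF : Disjoint D F) (hDH : Disjoint D H) (hEF : Disjoint E F) (hEH : Disjoint E H)
    (hFH : Disjoint F H)
    (hcov : ∀ x, x ∈ A ∨ x ∈ B ∨ x ∈ C ∨ x ∈ D ∨ x ∈ E ∨ x ∈ F ∨ x ∈ H) :
    Nat.card α = A.ncard + B.ncard + C.ncard + D.ncard + E.ncard + F.ncard + H.ncard := by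
  have huniv : (Set.univ : Set α) = A ∪ B ∪ C ∪ D ∪ E ∪ F ∪ H := by
    ext x
    simp only [Set.mem_univ, Set.mem_union, true_iff]
    rcases hcov x with h | h | h | h | h | h | h <;> simp [h]
  rw [← Set.ncard_univ, huniv]
  have fin : ∀ S : Set α, S.Finite := fun S => Set.toFinite S
  rw [Set.ncard_union_eq (by
        simp only [Set.disjoint_union_left]
        exact ⟨⟨⟨⟨⟨hAH, hBH⟩, hCH⟩, hDH⟩, hEH⟩, hFH⟩) (fin _) (fin _),
    Set.ncard_union_eq (by
        simp only [Set.disjoint_union_left]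
        exact ⟨⟨⟨⟨hAF, hBF⟩, hCF⟩, hDF⟩, hEF⟩) (fin _) (fin _),
    Set.ncard_union_eq (by
        simp only [Set.disjoint_union_left]
        exact ⟨⟨⟨hAE, hBE⟩, hCE⟩, hDE⟩) (fin _) (fin _),
    Set.ncard_union_eq (by
        simp only [Set.disjoint_union_left]
        exact ⟨⟨hAD, hBD⟩, hCD⟩) (fin _) (fin _),
    Set.ncard_union_eq (by
        simp only [Set.disjoint_union_left]
        exact ⟨hAC, hBC⟩) (fin _) (fin _),
    Set.ncard_union_eq hAB (fin _) (fin _)]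


section

variable {K : Type*} [Field K] [Fintype K] [CharP K 3] {m : ℕ}

/-- elements whose order is divisible by a prime divisor of `(q - 1) / 2` -/
def XH (K : Type*) [Field K] (m : ℕ) : Set ↥(twistedG2 K (3 ^ m)) :=
  {g | ∃ s : ℕ, s.Prime ∧ s ∣ (3 ^ (2 * m + 1) - 1) / 2 ∧ s ∣ orderOf g}

/-- elements whose order is divisible by a prime divisor of `(q + 1) / 4` -/
def XA (K : Type*) [Field K] (m : ℕ) : Set ↥(twistedG2 K (3 ^ m)) :=
  {g | ∃ s : ℕ, s.Prime ∧ s ∣ (3 ^ (2 * m + 1) + 1) / 4 ∧ s ∣ orderOf g}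

/-- if a prime `s ∣ (q-1)/2` divides `o(g)` then `o(g) ∣ q - 1` -/
theorem orderOf_dvd_of_XH (hK : Fintype.card K = 3 ^ (2 * m + 1))
    (g : ↥(twistedG2 K (3 ^ m))) (s : ℕ) (hs : s.Prime) (hsd : s ∣ (3 ^ (2 * m + 1) - 1) / 2)
    (hsg : s ∣ orderOf g) : orderOf g ∣ 3 ^ (2 * m + 1) - 1 := by
  have hfin := Cfsg.Agent.ReeL.finite_twisted (K := K) (m := m) hK
  set a := g ^ (orderOf g / s) with ha
  have hao : orderOf a = s := orderOf_pow_orderOf_div (orderOf_pos g).ne' hsg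
  obtain ⟨h, hh⟩ := split_cent hK a s hs hsd hao
  have hga : g ∈ Subgroup.centralizer ({a} : Set ↥(twistedG2 K (3 ^ m))) := by
    rw [Subgroup.mem_centralizer_singleton_iff, ha]
    exact ((Commute.refl g).pow_right _).eq
  have h1 : orderOf (⟨g, hga⟩ : ↥(Subgroup.centralizer
      ({a} : Set ↥(twistedG2 K (3 ^ m))))) = orderOf g := by
    rw [← Subgroup.orderOf_coe]
  rw [← h1, ← card_HH1 (K := K) hK, ← Nat.card_congr (conjEquiv _ _ h hh).toEquiv]
  exact orderOf_dvd_natCard _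

/-- if a prime `s ∣ (q+1)/4` divides `o(g)` then `o(g) ∣ q + 1` -/
theorem orderOf_dvd_of_XA (hK : Fintype.card K = 3 ^ (2 * m + 1)) (hm : 1 ≤ m)
    (g : ↥(twistedG2 K (3 ^ m))) (s : ℕ) (hs : s.Prime) (hsd : s ∣ (3 ^ (2 * m + 1) + 1) / 4)
    (hsg : s ∣ orderOf g) : orderOf g ∣ 3 ^ (2 * m + 1) + 1 := by
  have hfin := Cfsg.Agent.ReeL.finite_twisted (K := K) (m := m) hK
  set a := g ^ (orderOf g / s) with ha
  have hao : orderOf a = s := orderOf_pow_orderOf_div (orderOf_pos g).ne' hsg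
  obtain ⟨-, hcard, -⟩ := quarter_cent hK hm a s hs hsd hao
  have hga : g ∈ Subgroup.centralizer ({a} : Set ↥(twistedG2 K (3 ^ m))) := by
    rw [Subgroup.mem_centralizer_singleton_iff, ha]
    exact ((Commute.refl g).pow_right _).eq
  have h1 : orderOf (⟨g, hga⟩ : ↥(Subgroup.centralizer
      ({a} : Set ↥(twistedG2 K (3 ^ m))))) = orderOf g := by
    rw [← Subgroup.orderOf_coe]
  rw [← h1, ← hcard]
  exact orderOf_dvd_natCard _

theorem XH_XA_disjoint (hK : Fintype.card K = 3 ^ (2 * m + 1)) :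
    Disjoint (XH K m) (XA K m) := by
  rw [Set.disjoint_left]
  rintro g ⟨s, hs, hsd, hsg⟩ ⟨s', hs', hsd', hsg'⟩
  have h1 := orderOf_dvd_of_XH hK g s hs hsd hsg
  have h2 : s' ∣ 3 ^ (2 * m + 1) - 1 := dvd_trans hsg' h1
  have h8 := q_mod8 m
  have h3 : s' ∣ 3 ^ (2 * m + 1) + 1 := dvd_trans hsd' (Nat.div_dvd_of_dvd (by omega))
  have hs3 := prime_gt_three_of_dvd_quarter hs' hsd'
  have hq1 : 1 ≤ 3 ^ (2 * m + 1) := Nat.one_le_pow _ _ (by norm_num)
  have h4 : s' ∣ (3 ^ (2 * m + 1) + 1) - (3 ^ (2 * m + 1) - 1) := Nat.dvd_sub h3 h2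
  have h5 : (3 ^ (2 * m + 1) + 1) - (3 ^ (2 * m + 1) - 1) = 2 := by omega
  rw [h5] at h4
  have := Nat.le_of_dvd (by norm_num) h4
  omega

theorem XH_Xpi_disjoint (hK : Fintype.card K = 3 ^ (2 * m + 1)) :
    Disjoint (XH K m) (Xpi K m) := by
  rw [Set.disjoint_left]
  rintro g ⟨s, hs, hsd, hsg⟩ ⟨s', hs', hsd', hsg'⟩
  have h1 := orderOf_dvd_of_XH hK g s hs hsd hsg
  obtain ⟨-, -, hsm, -⟩ := hex_arith hs' hsd'
  exact hsm (dvd_trans hsg' h1)

theorem XA_Xpi_disjoint (hK : Fintype.card K = 3 ^ (2 * m + 1)) (hm : 1 ≤ m) :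
    Disjoint (XA K m) (Xpi K m) := by
  rw [Set.disjoint_left]
  rintro g ⟨s, hs, hsd, hsg⟩ ⟨s', hs', hsd', hsg'⟩
  have h1 := orderOf_dvd_of_XA hK hm g s hs hsd hsg
  obtain ⟨-, -, -, hsp⟩ := hex_arith hs' hsd'
  exact hsp (dvd_trans hsg' h1)

theorem XH_subset_big : XH K m ⊆ {g | PBig (orderOf g)} := by
  rintro g ⟨s, hs, hsd, hsg⟩
  exact ⟨s, hs, prime_gt_three_of_dvd_half hs hsd, hsg⟩

theorem XA_subset_big : XA K m ⊆ {g | PBig (orderOf g)} := by
  rintro g ⟨s, hs, hsd, hsg⟩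
  exact ⟨s, hs, prime_gt_three_of_dvd_quarter hs hsd, hsg⟩

theorem Xpi_subset_big : Xpi K m ⊆ {g | PBig (orderOf g)} := by
  rintro g ⟨s, hs, hsd, hsg⟩
  exact ⟨s, hs, (hex_arith hs hsd).1, hsg⟩

/-- the number of elements whose order is divisible by a prime divisor of `q² - q + 1` -/
theorem card_Xpi (hK : Fintype.card K = 3 ^ (2 * m + 1)) (hm : 1 ≤ m)
    (hX3 : Nat.card {g : ↥(twistedG2 K (3 ^ m)) // g ≠ 1 ∧ ∃ k : ℕ, orderOf g = 3 ^ k}
      = (3 ^ (2 * m + 1)) ^ 6 - 1)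
    (hcover : ∀ g : ↥(twistedG2 K (3 ^ m)), g ≠ 1 →
      (∃ k : ℕ, orderOf g = 3 ^ k) ∨ orderOf g = 2 ∨ orderOf g = 6 ∨
      (∃ s : ℕ, s.Prime ∧ s ∣ (3 ^ (2 * m + 1) - 1) / 2 ∧ s ∣ orderOf g) ∨
      (∃ s : ℕ, s.Prime ∧ s ∣ (3 ^ (2 * m + 1) + 1) / 4 ∧ s ∣ orderOf g) ∨
      (∃ s : ℕ, s.Prime ∧ s ∣ 3 ^ (2 * m + 1) * (3 ^ (2 * m + 1) - 1) + 1 ∧ s ∣ orderOf g)) :
    3 * (3 ^ (2 * m + 1) * (3 ^ (2 * m + 1) - 1) + 1) * (Xpi K m).ncard
      = (3 ^ (2 * m + 1)) ^ 3 * (3 ^ (2 * m + 1) - 1) * ((3 ^ (2 * m + 1)) ^ 3 + 1)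
        * (3 ^ (2 * m + 1) * (3 ^ (2 * m + 1) - 2)) := by
  have hfin := Cfsg.Agent.ReeL.finite_twisted (K := K) (m := m) hK
  have hbigH := XH_subset_big (K := K) (m := m)
  have hbigA := XA_subset_big (K := K) (m := m)
  have hbigP := Xpi_subset_big (K := K) (m := m)
  have hsum := ncard_seven (α := ↥(twistedG2 K (3 ^ m)))
    {g | P1 (orderOf g)} {g | P3 (orderOf g)} {g | P2 (orderOf g)} {g | P6 (orderOf g)}
    (XH K m) (XA K m) (Xpi K m)
    (disjoint_of_order _ _ not_P1_P3) (disjoint_of_order _ _ not_P1_P2)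
    (disjoint_of_order _ _ not_P1_P6)
    (Set.disjoint_of_subset_right hbigH (disjoint_of_order _ _ not_P1_PBig))
    (Set.disjoint_of_subset_right hbigA (disjoint_of_order _ _ not_P1_PBig))
    (Set.disjoint_of_subset_right hbigP (disjoint_of_order _ _ not_P1_PBig))
    (disjoint_of_order _ _ not_P3_P2) (disjoint_of_order _ _ not_P3_P6)
    (Set.disjoint_of_subset_right hbigH (disjoint_of_order _ _ not_P3_PBig))
    (Set.disjoint_of_subset_right hbigA (disjoint_of_order _ _ not_P3_PBig))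
    (Set.disjoint_of_subset_right hbigP (disjoint_of_order _ _ not_P3_PBig))
    (disjoint_of_order _ _ not_P2_P6)
    (Set.disjoint_of_subset_right hbigH (disjoint_of_order _ _ not_P2_PBig))
    (Set.disjoint_of_subset_right hbigA (disjoint_of_order _ _ not_P2_PBig))
    (Set.disjoint_of_subset_right hbigP (disjoint_of_order _ _ not_P2_PBig))
    (Set.disjoint_of_subset_right hbigH (disjoint_of_order _ _ not_P6_PBig))
    (Set.disjoint_of_subset_right hbigA (disjoint_of_order _ _ not_P6_PBig))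
    (Set.disjoint_of_subset_right hbigP (disjoint_of_order _ _ not_P6_PBig))
    (XH_XA_disjoint hK) (XH_Xpi_disjoint hK) (XA_Xpi_disjoint hK hm)
    (by
      intro g
      by_cases hg : g = 1
      · left
        show orderOf g = 1
        rw [hg, orderOf_one]
      · right
        rcases hcover g hg with h | h | h | h | h | h
        · left
          exact ⟨fun h1 => hg (orderOf_eq_one_iff.1 h1), h⟩
        · right; left; exact h
        · right; right; left; exact h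
        · right; right; right; left; exact h
        · right; right; right; right; left; exact h
        · right; right; right; right; right; exact h)
  -- the individual counts
  have c1 : ({g | P1 (orderOf g)} : Set ↥(twistedG2 K (3 ^ m))).ncard = 1 := by
    have : ({g | P1 (orderOf g)} : Set ↥(twistedG2 K (3 ^ m))) = {1} := by
      ext g
      show orderOf g = 1 ↔ g ∈ ({1} : Set ↥(twistedG2 K (3 ^ m)))
      rw [Set.mem_singleton_iff]
      exact orderOf_eq_one_iff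
    rw [this, Set.ncard_singleton]
  have c3 : ({g | P3 (orderOf g)} : Set ↥(twistedG2 K (3 ^ m))).ncard
      = (3 ^ (2 * m + 1)) ^ 6 - 1 := by
    rw [← hX3, ← Nat.card_coe_set_eq]
    apply Nat.card_congr
    refine Equiv.subtypeEquivRight ?_
    intro g
    show (orderOf g ≠ 1 ∧ _) ↔ _
    rw [Ne, orderOf_eq_one_iff]
  have c2 : ({g | P2 (orderOf g)} : Set ↥(twistedG2 K (3 ^ m))).ncard
      = (3 ^ (2 * m + 1)) ^ 2 * ((3 ^ (2 * m + 1)) ^ 2 - 3 ^ (2 * m + 1) + 1) := by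
    rw [← card_invol hK hm, ← Nat.card_coe_set_eq]
    rfl
  have c6 : ({g | P6 (orderOf g)} : Set ↥(twistedG2 K (3 ^ m))).ncard
      = (3 ^ (2 * m + 1)) ^ 2 * (3 ^ (2 * m + 1) - 1) * ((3 ^ (2 * m + 1)) ^ 3 + 1) := by
    rw [← card_order_six hK hm, ← Nat.card_coe_set_eq]
    rfl
  have cH : (XH K m).ncard * (2 * (3 ^ (2 * m + 1) - 1))
      = Nat.card ↥(twistedG2 K (3 ^ m)) * (3 ^ (2 * m + 1) - 3) := by
    rw [← card_XH_aux hK, ← Nat.card_coe_set_eq]
    rfl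
  have cA : (XA K m).ncard * (6 * (3 ^ (2 * m + 1) + 1))
      = Nat.card ↥(twistedG2 K (3 ^ m)) * (3 ^ (2 * m + 1) - 3) := by
    rw [← card_XA_aux hK hm, ← Nat.card_coe_set_eq]
    rfl
  rw [c1, c3, c2, c6, card_twisted hK] at hsum
  rw [card_twisted hK] at cH cA
  -- arithmetic
  have hq27 : 27 ≤ 3 ^ (2 * m + 1) := Cfsg.Agent.Lib.Helper5.Ree.WardArith.q_ge hm
  generalize 3 ^ (2 * m + 1) = q at *
  generalize (XH K m).ncard = h at *
  generalize (XA K m).ncard = a at *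
  generalize (Xpi K m).ncard = t at *
  obtain ⟨n, rfl⟩ : ∃ n, q = n + 3 := ⟨q - 3, by omega⟩
  have e1 : n + 3 - 1 = n + 2 := by omega
  have e2 : n + 3 - 2 = n + 1 := by omega
  have e3 : n + 3 - 3 = n := by omega
  have e4 : (n + 3) ^ 2 - (n + 3) + 1 = (n + 3) * (n + 2) + 1 := by
    have : (n + 3) ^ 2 = (n + 3) * (n + 2) + (n + 3) := by ring
    omega
  have e5 : (n + 3) ^ 6 - 1 + 1 = (n + 3) ^ 6 := by
    have : 0 < (n + 3) ^ 6 := by positivity
    omega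
  rw [e1, e3] at cH cA
  rw [e1, e4] at hsum
  rw [e1, e2]
  have hsum' : (n + 3) ^ 3 * (n + 2) * ((n + 3) ^ 3 + 1) =
      (n + 3) ^ 6 + (n + 3) ^ 2 * ((n + 3) * (n + 2) + 1) +
        (n + 3) ^ 2 * (n + 2) * ((n + 3) ^ 3 + 1) + h + a + t := by
    rw [hsum]
    omega
  zify at hsum' cH cA ⊢
  have hpos : (0 : ℤ) < 6 * ((n : ℤ) + 2) * ((n : ℤ) + 4) := by positivity
  apply mul_left_cancel₀ hpos.ne'
  linear_combination (-(18 * ((n : ℤ) + 3) * ((n : ℤ) + 2) + 18) * ((n : ℤ) + 2) * ((n : ℤ) + 4)) * hsum'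
    - (9 * (((n : ℤ) + 3) * ((n : ℤ) + 2) + 1) * ((n : ℤ) + 4)) * cH
    - (3 * (((n : ℤ) + 3) * ((n : ℤ) + 2) + 1) * ((n : ℤ) + 2)) * cA

end

end Cfsg.Agent.ReeHex
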